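import Mathlib

/-!
# Centralizers in groups with central commutators and centre of prime order (helper26)
-/

set_option autoImplicit false

namespace Cfsg.Agent.Lib.Helper26

section commhom

variable {Q : Type*} [Group Q]

/-- `x ↦ [x, v]` as a homomorphism into the centre, when all commutators are central. -/
def commHom (hcomm : ∀ x y : Q, x * y * x⁻¹ * y⁻¹ ∈ Subgroup.center Q) (v : Q) :
    Q →* Subgroup.center Q :=
  MonoidHom.mk' (fun x => ⟨x * v * x⁻¹ * v⁻¹, hcomm x v⟩) (by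
    intro x y
    apply Subtype.ext
    have hc : ∀ g : Q, g * (y * v * y⁻¹ * v⁻¹) = (y * v * y⁻¹ * v⁻¹) * g :=
      fun g => Subgroup.mem_center_iff.mp (hcomm y v) g
    show x * y * v * (x * y)⁻¹ * v⁻¹ = (x * v * x⁻¹ * v⁻¹) * (y * v * y⁻¹ * v⁻¹)
    calc x * y * v * (x * y)⁻¹ * v⁻¹ = x * (y * v * y⁻¹ * v⁻¹) * (v * x⁻¹ * v⁻¹) := by group
      _ = (y * v * y⁻¹ * v⁻¹) * x * (v * x⁻¹ * v⁻¹) := by rw [hc x]
      _ = (y * v * y⁻¹ * v⁻¹) * (x * v * x⁻¹ * v⁻¹) := by group
      _ = (x * v * x⁻¹ * v⁻¹) * (y * v * y⁻¹ * v⁻¹) := (hc _).symm)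

theorem mem_ker_commHom (hcomm : ∀ x y : Q, x * y * x⁻¹ * y⁻¹ ∈ Subgroup.center Q) (v x : Q) :
    x ∈ (commHom hcomm v).ker ↔ x * v = v * x := by
  rw [MonoidHom.mem_ker]
  constructor
  · intro h
    have h1 : x * v * x⁻¹ * v⁻¹ = 1 := congrArg Subtype.val h
    calc x * v = (x * v * x⁻¹ * v⁻¹) * (v * x) := by group
      _ = v * x := by rw [h1, one_mul]
  · intro h
    apply Subtype.ext
    show x * v * x⁻¹ * v⁻¹ = 1
    rw [h]
    group

theorem index_ker_commHom_dvd [Finite Q] {p : ℕ}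
    (hcomm : ∀ x y : Q, x * y * x⁻¹ * y⁻¹ ∈ Subgroup.center Q)
    (hZ : Nat.card (Subgroup.center Q) = p) (v : Q) : (commHom hcomm v).ker.index ∣ p := by
  rw [Subgroup.index_ker, ← hZ]
  exact Subgroup.card_subgroup_dvd_card _

theorem exists_comm_not_mem [Finite Q] {p : ℕ} [Fact p.Prime]
    (hcomm : ∀ x y : Q, x * y * x⁻¹ * y⁻¹ ∈ Subgroup.center Q)
    (hZ : Nat.card (Subgroup.center Q) = p) (hcard : p ^ 4 ≤ Nat.card Q)
    (E : Subgroup Q) (hEab : ∀ a ∈ E, ∀ b ∈ E, a * b = b * a) (hEne : E ≠ ⊤)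
    (w : Q) (hw : w ∈ E) : ∃ x : Q, x ∉ E ∧ x * w = w * x := by
  have hp := (Fact.out : p.Prime)
  by_contra hcon
  push_neg at hcon
  -- `E` is the centralizer of `w`
  have hEker : E = (commHom hcomm w).ker := by
    apply le_antisymm
    · intro e he
      exact (mem_ker_commHom hcomm w e).mpr (hEab e he w hw)
    · intro x hx
      by_contra hxE
      exact hcon x hxE ((mem_ker_commHom hcomm w x).mp hx)
  have hEidx : E.index = p := by
    have h1 : E.index ∣ p := hEker ▸ index_ker_commHom_dvd hcomm hZ w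
    rcases (Nat.dvd_prime hp).mp h1 with h | h
    · exact absurd (Subgroup.index_eq_one.mp h) hEne
    · exact h
  obtain ⟨x₀, -, hx₀⟩ := SetLike.exists_of_lt (lt_top_iff_ne_top.mpr hEne)
  -- the centralizer of `x₀` in `E` is not central
  have hD : (commHom hcomm x₀).ker.index ∣ p := index_ker_commHom_dvd hcomm hZ x₀
  have hED : ¬ (E ⊓ (commHom hcomm x₀).ker ≤ Subgroup.center Q) := by
    intro hle
    have h1 : Nat.card ↥(E ⊓ (commHom hcomm x₀).ker) ≤ p := by
      rw [← hZ]
      exact Subgroup.card_le_of_le hle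
    have h2 : (E ⊓ (commHom hcomm x₀).ker).index ≤ p * p := by
      calc (E ⊓ (commHom hcomm x₀).ker).index ≤ E.index * (commHom hcomm x₀).ker.index :=
            Subgroup.index_inf_le
        _ ≤ p * p := by
            rw [hEidx]
            exact Nat.mul_le_mul_left _ (Nat.le_of_dvd hp.pos hD)
    have h3 := Subgroup.card_mul_index (E ⊓ (commHom hcomm x₀).ker)
    have h4 : Nat.card Q ≤ p * (p * p) := by
      rw [← h3]
      exact Nat.mul_le_mul h1 h2
    have h5 : p * (p * p) < p ^ 4 := by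
      have : p ^ 4 = p * (p * (p * p)) := by ring
      rw [this]
      have h6 : 0 < p * (p * p) := Nat.mul_pos hp.pos (Nat.mul_pos hp.pos hp.pos)
      nlinarith [hp.two_le]
    omega
  obtain ⟨e, he, hec⟩ := SetLike.not_le_iff_exists.mp hED
  have heE : e ∈ E := he.1
  have hex : x₀ * e = e * x₀ := (mem_ker_commHom hcomm x₀ e).mp he.2 |>.symm
  -- the centralizer of `e`
  have hEle : E ≤ (commHom hcomm e).ker := by
    intro a ha
    exact (mem_ker_commHom hcomm e a).mpr (hEab a ha e heE)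
  have hx₀C : x₀ ∈ (commHom hcomm e).ker := (mem_ker_commHom hcomm e x₀).mpr hex
  have hCtop : (commHom hcomm e).ker ≠ ⊤ := by
    intro htop
    apply hec
    rw [Subgroup.mem_center_iff]
    intro g
    have hg : g ∈ (commHom hcomm e).ker := htop ▸ Subgroup.mem_top g
    exact (mem_ker_commHom hcomm e g).mp hg
  have h7 := Subgroup.relIndex_mul_index hEle
  rw [hEidx] at h7
  have h8 : (commHom hcomm e).ker.index ∣ p := Dvd.intro_left _ h7
  rcases (Nat.dvd_prime hp).mp h8 with h | h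
  · exact hCtop (Subgroup.index_eq_one.mp h)
  · rw [h] at h7
    have h9 : E.relIndex (commHom hcomm e).ker = 1 := by
      have := hp.pos
      nlinarith
    exact hx₀ (Subgroup.relIndex_eq_one.mp h9 hx₀C)

end commhom

end Cfsg.Agent.Lib.Helper26
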