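import Mathlib
import Cfsg.Agent.Lib.Helper26.FusEmb
import Cfsg.Agent.Lib.Helper26.FusStab
import Cfsg.Agent.Lib.Helper26.FusNorm
import Cfsg.Agent.Lib.Helper26.ExtraEssA

/-!
# Essential subgroups inside a subgroup with central commutators and centre of prime order
(helper26)
-/

set_option autoImplicit false

namespace Cfsg.Agent.Lib.Helper26

open Cfsg Cfsg.FusionSystem

universe u

section embB

variable {X : Type u} [Group X]

theorem mem_of_conj_mem_of_sEmb [Finite X] {p : ℕ} [Fact p.Prime] (T : Sylow p X) {Y : Subgroup X}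
    (hY : SEmb (T : Subgroup X) Y) (hTY : (T : Subgroup X) ≤ Y) {u g : X} (hu : u ∈ Y)
    (hu1 : u ≠ 1) (hup : IsPGroup p (Subgroup.zpowers u)) (hgu : g * u * g⁻¹ ∈ Y) : g ∈ Y := by
  have hsyl : IsSylowIn p Y (T : Subgroup X) := ⟨T.subtype hTY, Sylow.coe_subtype T hTY⟩
  obtain ⟨c, hcY, hc⟩ := hsyl.conj_le ((Subgroup.zpowers_le).mpr hu) hup
  have hup' : IsPGroup p (Subgroup.zpowers (g * u * g⁻¹)) := by
    have h1 := hup.map (MulAut.conj g).toMonoidHom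
    rw [MonoidHom.map_zpowers] at h1
    exact h1
  obtain ⟨c', hc'Y, hc'⟩ := hsyl.conj_le ((Subgroup.zpowers_le).mpr hgu) hup'
  have ht : c * u * c⁻¹ ∈ (T : Subgroup X) := hc u (Subgroup.mem_zpowers u)
  have ht1 : c * u * c⁻¹ ≠ 1 := by
    intro h
    apply hu1
    have e : u = c⁻¹ * (c * u * c⁻¹) * c := by group
    rw [e, h]
    group
  have ht' : c' * (g * u * g⁻¹) * c'⁻¹ ∈ (T : Subgroup X) := hc' _ (Subgroup.mem_zpowers _)
  have hmem : (c' * g * c⁻¹)⁻¹ ∈ embGen (T : Subgroup X) := by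
    refine ⟨c * u * c⁻¹, ht, ht1, ?_⟩
    have e : (c' * g * c⁻¹)⁻¹⁻¹ * (c * u * c⁻¹) * (c' * g * c⁻¹)⁻¹ = c' * (g * u * g⁻¹) * c'⁻¹ := by
      group
    rw [e]
    exact ht'
  have h1 := embGen_subset_of_sEmb T hY hmem
  have h2 : c' * g * c⁻¹ ∈ Y := by
    have := Y.inv_mem h1
    rwa [inv_inv] at this
  have h3 : g = c'⁻¹ * (c' * g * c⁻¹) * c := by group
  rw [h3]
  exact Y.mul_mem (Y.mul_mem (Y.inv_mem hc'Y) h2) hcY

end embB

section stabK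

variable {P : Type u} [Group P]

/-- automorphisms stabilizing the series `1 ≤ G₁ ≤ W ≤ P` where `G₁` is generated by `w` -/
def triStab (W : Subgroup P) (w : P) : Subgroup (MulAut P) where
  carrier := {β | (∀ v, v⁻¹ * β v ∈ W) ∧ (∀ v ∈ W, v⁻¹ * β v ∈ Subgroup.zpowers w) ∧ β w = w}
  one_mem' := by
    refine ⟨fun v => ?_, fun v _ => ?_, rfl⟩
    · simp
    · simp
  mul_mem' := by
    rintro β γ ⟨hβ1, hβ2, hβ3⟩ ⟨hγ1, hγ2, hγ3⟩
    have e : ∀ v, v⁻¹ * (β * γ) v = (v⁻¹ * γ v) * ((γ v)⁻¹ * β (γ v)) := by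
      intro v
      rw [MulAut.mul_apply]
      group
    refine ⟨fun v => ?_, fun v hv => ?_, ?_⟩
    · rw [e]
      exact W.mul_mem (hγ1 v) (hβ1 _)
    · rw [e]
      have hγv : γ v ∈ W := by
        have e2 : γ v = v * (v⁻¹ * γ v) := by group
        rw [e2]
        exact W.mul_mem hv (hγ1 v)
      exact Subgroup.mul_mem _ (hγ2 v hv) (hβ2 _ hγv)
    · rw [MulAut.mul_apply, hγ3, hβ3]
  inv_mem' := by
    rintro β ⟨hβ1, hβ2, hβ3⟩
    have e : ∀ v, v⁻¹ * β⁻¹ v = ((β⁻¹ v)⁻¹ * β (β⁻¹ v))⁻¹ := by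
      intro v
      rw [MulAut.apply_inv_self]
      group
    have h1 : ∀ v, v⁻¹ * β⁻¹ v ∈ W := by
      intro v
      rw [e]
      exact W.inv_mem (hβ1 _)
    refine ⟨h1, fun v hv => ?_, ?_⟩
    · rw [e]
      have hv' : β⁻¹ v ∈ W := by
        have e2 : β⁻¹ v = v * (v⁻¹ * β⁻¹ v) := by group
        rw [e2]
        exact W.mul_mem hv (h1 v)
      exact Subgroup.inv_mem _ (hβ2 _ hv')
    · nth_rewrite 1 [← hβ3]
      exact MulAut.inv_apply_self _ β w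

theorem triStab_isPGroup [Finite P] {p : ℕ} [Fact p.Prime] (hP : IsPGroup p P) (W : Subgroup P)
    (w : P) : IsPGroup p (triStab W w) := by
  rintro ⟨β, hβ1, hβ2, hβ3⟩
  let N : ℕ → Subgroup P := fun i =>
    if i = 0 then ⊤ else if i = 1 then W else if i = 2 then Subgroup.zpowers w else ⊥
  have hfix : ∀ v ∈ Subgroup.zpowers w, β v = v := by
    intro v hv
    obtain ⟨k, rfl⟩ := Subgroup.mem_zpowers_iff.mp hv
    rw [map_zpow, hβ3]
  obtain ⟨k, hk⟩ := exists_pow_eq_one_of_chain hP β N 3 rfl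
    ⟨0, fun x hx => by
      have hx' : x = 1 := Subgroup.mem_bot.mp hx
      rw [hx', map_one]⟩
    (by
      intro i hi
      interval_cases i
      · refine ⟨fun x _ => Subgroup.mem_top _, fun x _ => ?_⟩
        show x⁻¹ * β x ∈ W
        exact hβ1 x
      · refine ⟨fun x hx => ?_, fun x hx => ?_⟩
        · show β x ∈ W
          have e2 : β x = x * (x⁻¹ * β x) := by group
          rw [e2]
          exact W.mul_mem hx (hβ1 x)
        · show x⁻¹ * β x ∈ Subgroup.zpowers w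
          exact hβ2 x hx
      · refine ⟨fun x hx => ?_, fun x hx => ?_⟩
        · show β x ∈ Subgroup.zpowers w
          rw [hfix x hx]
          exact hx
        · show x⁻¹ * β x ∈ (⊥ : Subgroup P)
          rw [hfix x hx, inv_mul_cancel]
          exact Subgroup.one_mem _)
  refine ⟨k, ?_⟩
  apply Subtype.ext
  simpa using hk

end stabK

section main

variable {Ω : Type u} [Group Ω] {S : Subgroup Ω}

theorem eq_of_essential_le_extraspecial [Finite S] {p : ℕ} [Fact p.Prime] (hS : IsPGroup p S)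
    (F : FusionSystem S) {Q E : Subgroup Ω} (hQS : Q ≤ S)
    (hcomm : ∀ x y : Q, x * y * x⁻¹ * y⁻¹ ∈ Subgroup.center Q)
    (hZ : Nat.card (Subgroup.center Q) = p) (hcard : p ^ 4 ≤ Nat.card Q)
    (hEQ : E ≤ Q) (hE : F.IsEssential p E) : E = Q := by
  classical
  have hp := (Fact.out : p.Prime)
  obtain ⟨hEc, -, hN, M, hM⟩ := hE
  have hES : E ≤ S := hEc.1
  haveI : Finite Q := finite_of_le hQS
  haveI : Finite E := finite_of_le hES
  haveI : Finite (MulAut E) := inferInstance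
  have hC : centralizerIn S E ≤ E := hEc.2 E (isConj_refl F hES)
  by_contra hne
  have hcen : ∀ z : Q, z ∈ Subgroup.center Q → ∀ x ∈ Q, x * (z : Ω) = (z : Ω) * x := by
    intro z hz x hx
    have h1 := Subgroup.mem_center_iff.mp hz ⟨x, hx⟩
    exact congrArg Subtype.val h1
  have hZE : ∀ z : Q, z ∈ Subgroup.center Q → (z : Ω) ∈ E := by
    intro z hz
    apply hC
    refine mem_centralizerIn_iff.mpr ⟨hQS z.2, Subgroup.mem_centralizer_iff.mpr ?_⟩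
    intro e he
    exact hcen z hz e (hEQ he)
  have hcommΩ : ∀ x ∈ Q, ∀ y ∈ Q, x * y * x⁻¹ * y⁻¹ ∈ E := by
    intro x hx y hy
    exact hZE _ (hcomm ⟨x, hx⟩ ⟨y, hy⟩)
  have hQN : Q ≤ Subgroup.normalizer (E : Set Ω) := by
    intro x hx
    apply mem_normalizer_of_conj_mem
    intro e he
    have h1 : x * e * x⁻¹ = (x * e * x⁻¹ * e⁻¹) * e := by group
    rw [h1]
    exact E.mul_mem (hcommΩ x hx e (hEQ he)) he
  let c₂ : Q →* MulAut E := E.normalizerMonoidHom.comp (Subgroup.inclusion hQN)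
  have hc₂ : ∀ (x : Q) (v : E), ((c₂ x v : E) : Ω) = (x : Ω) * v * (x : Ω)⁻¹ := fun x v => rfl
  have hc₂A : ∀ x : Q, c₂ x ∈ F.autGroup E := fun x =>
    autInducedBy_le_autGroup F hES (conj_mem_autInducedBy (hQS x.2) (hQN x.2))
  let c₃ : Q →* F.autGroup E := c₂.codRestrict (F.autGroup E) hc₂A
  let κ : Q →* (F.autGroup E ⧸ (Inn E).subgroupOf (F.autGroup E)) :=
    (QuotientGroup.mk' ((Inn E).subgroupOf (F.autGroup E))).comp c₃
  have hκ1 : ∀ x : Q, (x : Ω) ∉ E → κ x ≠ 1 := by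
    intro x hx h
    have h1 : c₃ x ∈ (Inn E).subgroupOf (F.autGroup E) := by
      rw [← QuotientGroup.eq_one_iff]
      exact h
    have h2 : c₂ x ∈ Inn E := Subgroup.mem_subgroupOf.mp h1
    exact not_mem_inn_of_centralizerIn_le hES hC (hQS x.2) hx (fun v => hc₂ x v) h2
  have hQp : IsPGroup p Q := hS.to_le hQS
  have hAp : IsPGroup p κ.range := hQp.of_surjective κ.rangeRestrict κ.rangeRestrict_surjective
  obtain ⟨T₀, hT₀⟩ := hAp.exists_le_sylow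
  obtain ⟨Y, hYtop, hY⟩ := exists_sEmb_of_stronglyPEmbedded hM T₀
  obtain ⟨x₀, hx₀Q, hx₀E⟩ := SetLike.exists_of_lt (lt_of_le_of_ne hEQ hne)
  have hκx₀ : κ ⟨x₀, hx₀Q⟩ ≠ 1 := hκ1 ⟨x₀, hx₀Q⟩ hx₀E
  have hTne : (T₀ : Subgroup (F.autGroup E ⧸ (Inn E).subgroupOf (F.autGroup E))) ≠ ⊥ := by
    intro h
    have h1 : κ ⟨x₀, hx₀Q⟩ ∈ (T₀ : Subgroup (F.autGroup E ⧸ (Inn E).subgroupOf (F.autGroup E))) :=
      hT₀ ⟨_, rfl⟩
    rw [h, Subgroup.mem_bot] at h1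
    exact hκx₀ h1
  have hTY : (T₀ : Subgroup (F.autGroup E ⧸ (Inn E).subgroupOf (F.autGroup E))) ≤ Y :=
    le_trans Subgroup.le_normalizer (hY _ le_rfl hTne)
  have hAY : ∀ x : Q, κ x ∈ Y := fun x => hTY (hT₀ ⟨x, rfl⟩)
  obtain ⟨gb, -, hgb⟩ := SetLike.exists_of_lt (lt_top_iff_ne_top.mpr hYtop)
  obtain ⟨g, rfl⟩ := QuotientGroup.mk'_surjective _ gb
  obtain ⟨z₀, hz₀⟩ : ∃ z₀ : Subgroup.center Q, z₀ ≠ 1 := by
    haveI : Nontrivial (Subgroup.center Q) := by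
      apply Finite.one_lt_card_iff_nontrivial.mp
      rw [hZ]
      exact hp.one_lt
    exact exists_ne 1
  have hgen : ∀ z : Subgroup.center Q, z ∈ Subgroup.zpowers z₀ :=
    fun z => mem_zpowers_of_prime_card hZ hz₀
  let zE : E := ⟨((z₀ : Q) : Ω), hZE _ z₀.2⟩
  let wE : E := (g : MulAut E) zE
  -- central elements of `Q` lying in `E` are powers of any nontrivial one
  have hZpow : ∀ ζ₀ ζ : Subgroup.center Q, ζ₀ ≠ 1 → ∀ v₀ v : E, (v₀ : Ω) = ((ζ₀ : Q) : Ω) →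
      (v : Ω) = ((ζ : Q) : Ω) → v ∈ Subgroup.zpowers v₀ := by
    intro ζ₀ ζ hζ₀ v₀ v hv₀ hv
    obtain ⟨k, hk⟩ := Subgroup.mem_zpowers_iff.mp (mem_zpowers_of_prime_card hZ hζ₀ (g' := ζ))
    refine Subgroup.mem_zpowers_iff.mpr ⟨k, ?_⟩
    apply Subtype.ext
    rw [hv, ← hk]
    simp [hv₀]
  have hF1 : ∀ (y : Q) (v : E), v⁻¹ * c₂ y v ∈ Subgroup.zpowers zE := by
    intro y v
    have hvQ : (v : Ω) ∈ Q := hEQ v.2
    refine hZpow z₀ ⟨⟨(v : Ω)⁻¹, Q.inv_mem hvQ⟩ * y * ⟨(v : Ω)⁻¹, Q.inv_mem hvQ⟩⁻¹ * y⁻¹,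
      hcomm _ _⟩ hz₀ zE _ rfl ?_
    show (v : Ω)⁻¹ * ((y : Ω) * v * (y : Ω)⁻¹) = (v : Ω)⁻¹ * (y : Ω) * ((v : Ω)⁻¹)⁻¹ * (y : Ω)⁻¹
    group
  have hF2 : ∀ y : Q, c₂ y zE = zE := by
    intro y
    apply Subtype.ext
    show (y : Ω) * ((z₀ : Q) : Ω) * (y : Ω)⁻¹ = ((z₀ : Q) : Ω)
    rw [hcen _ z₀.2 y y.2]
    group
  have hx : ∃ x : Q, (x : Ω) ∉ E ∧ (x : Ω) * (wE : Ω) = (wE : Ω) * (x : Ω) := by
    by_cases hab : ∀ a ∈ E, ∀ b ∈ E, a * b = b * a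
    · have hE' : E.subgroupOf Q ≠ ⊤ := by
        intro h
        exact hne (le_antisymm hEQ (Subgroup.subgroupOf_eq_top.mp h))
      obtain ⟨x, hxE, hxw⟩ := exists_comm_not_mem hcomm hZ hcard (E.subgroupOf Q)
        (fun a ha b hb => Subtype.ext (hab a (Subgroup.mem_subgroupOf.mp ha) b
          (Subgroup.mem_subgroupOf.mp hb))) hE'
        ⟨(wE : Ω), hEQ wE.2⟩ (Subgroup.mem_subgroupOf.mpr wE.2)
      exact ⟨x, fun h => hxE (Subgroup.mem_subgroupOf.mpr h), congrArg Subtype.val hxw⟩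
    · push_neg at hab
      obtain ⟨a, ha, b, hb, hab⟩ := hab
      let aE : E := ⟨a, ha⟩
      let bE : E := ⟨b, hb⟩
      have hζd : (⟨⟨a, hEQ ha⟩ * ⟨b, hEQ hb⟩ * ⟨a, hEQ ha⟩⁻¹ * ⟨b, hEQ hb⟩⁻¹, hcomm _ _⟩ :
          Subgroup.center Q) ≠ 1 := by
        intro h
        apply hab
        have h1 : a * b * a⁻¹ * b⁻¹ = 1 :=
          congrArg (fun t : Subgroup.center Q => ((t : Q) : Ω)) h
        calc a * b = (a * b * a⁻¹ * b⁻¹) * (b * a) := by group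
          _ = b * a := by rw [h1, one_mul]
      have hzd : zE ∈ Subgroup.zpowers (aE * bE * aE⁻¹ * bE⁻¹) := hZpow _ z₀ hζd _ zE rfl rfl
      obtain ⟨k, hk⟩ := Subgroup.mem_zpowers_iff.mp hzd
      have hw : wE = ((g : MulAut E) aE * (g : MulAut E) bE * ((g : MulAut E) aE)⁻¹ *
          ((g : MulAut E) bE)⁻¹) ^ k := by
        show (g : MulAut E) zE = _
        rw [← hk, map_zpow, map_mul, map_mul, map_mul, map_inv, map_inv]
      refine ⟨⟨x₀, hx₀Q⟩, hx₀E, ?_⟩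
      have hA : (((g : MulAut E) aE : E) : Ω) ∈ Q := hEQ ((g : MulAut E) aE).2
      have hB : (((g : MulAut E) bE : E) : Ω) ∈ Q := hEQ ((g : MulAut E) bE).2
      have h1 := hcen _ (hcomm ⟨_, hA⟩ ⟨_, hB⟩) x₀ hx₀Q
      have h2 : Commute x₀ ((((g : MulAut E) aE : E) : Ω) * (((g : MulAut E) bE : E) : Ω) *
          (((g : MulAut E) aE : E) : Ω)⁻¹ * (((g : MulAut E) bE : E) : Ω)⁻¹) := h1
      have h3 := (h2.zpow_right k).eq
      rw [hw]
      simpa using h3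
  obtain ⟨x, hxE, hxw⟩ := hx
  have hF3 : c₂ x wE = wE := by
    apply Subtype.ext
    show (x : Ω) * (wE : Ω) * (x : Ω)⁻¹ = (wE : Ω)
    rw [hxw]
    group
  set W : Subgroup E := Subgroup.zpowers zE ⊔ Subgroup.zpowers wE with hW
  have ha : c₂ x ∈ triStab W wE := by
    have hle : W ≤ (c₂ x).toMonoidHom.eqLocus (MonoidHom.id E) := by
      refine sup_le ?_ ?_
      · rw [Subgroup.zpowers_le]
        exact hF2 x
      · rw [Subgroup.zpowers_le]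
        exact hF3
    have hfix : ∀ v ∈ W, c₂ x v = v := fun v hv => hle hv
    refine ⟨fun v => Subgroup.mem_sup_left (hF1 x v), fun v hv => ?_, hF3⟩
    rw [hfix v hv, inv_mul_cancel]
    exact Subgroup.one_mem _
  have hb : (g : MulAut E) * c₂ ⟨x₀, hx₀Q⟩ * (g : MulAut E)⁻¹ ∈ triStab W wE := by
    have h1 : ∀ v, v⁻¹ * ((g : MulAut E) * c₂ ⟨x₀, hx₀Q⟩ * (g : MulAut E)⁻¹) v ∈
        Subgroup.zpowers wE := by
      intro v
      have e : v⁻¹ * ((g : MulAut E) * c₂ ⟨x₀, hx₀Q⟩ * (g : MulAut E)⁻¹) v =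
          (g : MulAut E) (((g : MulAut E)⁻¹ v)⁻¹ * c₂ ⟨x₀, hx₀Q⟩ ((g : MulAut E)⁻¹ v)) := by
        simp [MulAut.mul_apply]
      rw [e]
      obtain ⟨k, hk⟩ := Subgroup.mem_zpowers_iff.mp (hF1 ⟨x₀, hx₀Q⟩ ((g : MulAut E)⁻¹ v))
      rw [← hk, map_zpow]
      exact Subgroup.zpow_mem_zpowers wE k
    refine ⟨fun v => Subgroup.mem_sup_right (h1 v), fun v _ => h1 v, ?_⟩
    show ((g : MulAut E) * c₂ ⟨x₀, hx₀Q⟩ * (g : MulAut E)⁻¹) ((g : MulAut E) zE) = (g : MulAut E) zE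
    rw [MulAut.mul_apply, MulAut.mul_apply, MulAut.inv_apply_self, hF2]
  have hKp : IsPGroup p (triStab W wE) := triStab_isPGroup (hS.to_le hES) W wE
  set Kb : Subgroup (F.autGroup E ⧸ (Inn E).subgroupOf (F.autGroup E)) :=
    ((triStab W wE).subgroupOf (F.autGroup E)).map
      (QuotientGroup.mk' ((Inn E).subgroupOf (F.autGroup E))) with hKb
  have hKbp : IsPGroup p Kb := (hKp.comap_subtype).map _
  have haK : κ x ∈ Kb := ⟨c₃ x, Subgroup.mem_subgroupOf.mpr ha, rfl⟩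
  have hbK : QuotientGroup.mk' ((Inn E).subgroupOf (F.autGroup E)) (g * c₃ ⟨x₀, hx₀Q⟩ * g⁻¹) ∈ Kb :=
    ⟨g * c₃ ⟨x₀, hx₀Q⟩ * g⁻¹, Subgroup.mem_subgroupOf.mpr hb, rfl⟩
  have hne' : Kb ⊓ Y ≠ ⊥ := by
    intro h
    have h1 : κ x ∈ Kb ⊓ Y := ⟨haK, hAY x⟩
    rw [h, Subgroup.mem_bot] at h1
    exact hκ1 x hxE h1
  have hKY : Kb ≤ Y := le_of_inf_ne_bot_of_sEmb T₀ hY hTY hKbp hne'
  have hbY := hKY hbK
  rw [map_mul, map_mul, map_inv] at hbY
  apply hgb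
  exact mem_of_conj_mem_of_sEmb T₀ hY hTY (hAY ⟨x₀, hx₀Q⟩) hκx₀
    (hAp.to_le ((Subgroup.zpowers_le).mpr ⟨_, rfl⟩)) hbY

end main

end Cfsg.Agent.Lib.Helper26
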