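import Mathlib
import Cfsg.Prelude.Def_FusionSystem
import Cfsg.Prelude.Def_PLocal
import Cfsg.Agent.Lib.Helper26.FusNormC
import Cfsg.Agent.Lib.Helper20.Omega
import Cfsg.Agent.S5088
import Cfsg.Agent.S5086
import Cfsg.Agent.S5085

set_option autoImplicit false

namespace Cfsg.Agent.Lib.Helper26

open Cfsg Cfsg.FusionSystem

universe u

section omega

variable {R₀ : Type u} [Group R₀]

/-- A `p'`-automorphism (p odd) of a finite group leaving a `p`-subgroup `W` invariant and fixing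
its elements of order dividing `p` fixes `W` pointwise. -/
theorem aut_fix_of_omega [Finite R₀] {p : ℕ} [Fact p.Prime] (hp : p ≠ 2)
    (γ : MulAut R₀) (hγ : (orderOf γ).Coprime p) (W : Subgroup R₀) (hW : IsPGroup p W)
    (hinv : ∀ x ∈ W, γ x ∈ W) (hfix : ∀ x ∈ W, x ^ p = 1 → γ x = x) : ∀ x ∈ W, γ x = x := by
  classical
  let L : R₀ →* Equiv.Perm R₀ := MulAction.toPermHom R₀ R₀
  have hL : Function.Injective L := MulAction.toPerm_injective
  let a : Equiv.Perm R₀ := MulAut.toPerm R₀ γ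
  have hainj : Function.Injective (MulAut.toPerm R₀) := by
    intro α β hαβ
    apply MulEquiv.ext
    intro x
    exact congrArg (fun e : Equiv.Perm R₀ => e x) hαβ
  have hconj : ∀ x : R₀, a * L x * a⁻¹ = L (γ x) := by
    intro x
    apply Equiv.ext
    intro y
    show γ (x * γ⁻¹ y) = γ x * y
    rw [map_mul, MulAut.apply_inv_self]
  have hord : orderOf a = orderOf γ := orderOf_injective (MulAut.toPerm R₀) hainj γ
  have hfinX : Finite (Equiv.Perm R₀) := inferInstance
  have hPp : IsPGroup p (W.map L) := hW.map L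
  have hnorm : a ∈ Subgroup.normalizer ((W.map L : Subgroup (Equiv.Perm R₀)) : Set (Equiv.Perm R₀)) := by
    apply mem_normalizer_of_conj_mem
    rintro _ ⟨x, hx, rfl⟩
    rw [hconj]
    exact ⟨γ x, hinv x hx, rfl⟩
  have hexpo : Cfsg.Agent.Lib.Helper20.Omega.expo p = p := if_neg hp
  have hyp : ∀ y ∈ W.map L, y ^ Cfsg.Agent.Lib.Helper20.Omega.expo p = 1 → a * y = y * a := by
    rintro _ ⟨x, hx, rfl⟩ hy
    rw [hexpo, ← map_pow] at hy
    have h1 : x ^ p = 1 := hL (by rw [hy, map_one])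
    have h2 := hconj x
    rw [hfix x hx h1] at h2
    calc a * L x = (a * L x * a⁻¹) * a := by group
      _ = L x * a := by rw [h2]
  have hmain := Cfsg.Agent.Lib.Helper20.Omega.centralizes_of_omega a (hord ▸ hγ) _ (W.map L) rfl hPp
    hnorm hyp
  intro x hx
  have h1 := hmain (L x) ⟨x, hx, rfl⟩
  have h2 := hconj x
  rw [h1] at h2
  apply hL
  rw [← h2]
  group

theorem pow_invariant (γ : MulAut R₀) (W : Subgroup R₀) (hinv : ∀ x ∈ W, γ x ∈ W) (j : ℕ) :
    ∀ x ∈ W, (γ ^ j) x ∈ W := by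
  induction j with
  | zero => intro x hx; simpa using hx
  | succ j ih =>
    intro x hx
    rw [pow_succ', MulAut.mul_apply]
    exact hinv _ (ih x hx)

theorem pow_fix (γ : MulAut R₀) (x : R₀) (hx : γ x = x) (j : ℕ) : (γ ^ j) x = x := by
  induction j with
  | zero => simp
  | succ j ih => rw [pow_succ', MulAut.mul_apply, ih, hx]

theorem exists_pow_fix_of_omega [Finite R₀] {p : ℕ} [Fact p.Prime] (hp : p ≠ 2)
    (γ : MulAut R₀) (W : Subgroup R₀) (hW : IsPGroup p W)
    (hinv : ∀ x ∈ W, γ x ∈ W) (hfix : ∀ x ∈ W, x ^ p = 1 → γ x = x) :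
    ∃ k : ℕ, ∀ x ∈ W, (γ ^ (p ^ k)) x = x := by
  have hfin : Finite (MulAut R₀) := inferInstance
  have hpos : 0 < orderOf γ := orderOf_pos γ
  have hpp : p.Prime := Fact.out
  refine ⟨(orderOf γ).factorization p, ?_⟩
  have hdvd : p ^ (orderOf γ).factorization p ∣ orderOf γ := Nat.ordProj_dvd _ _
  have hne : p ^ (orderOf γ).factorization p ≠ 0 := (pow_pos hpp.pos _).ne'
  have hord : orderOf (γ ^ (p ^ (orderOf γ).factorization p)) =
      orderOf γ / p ^ (orderOf γ).factorization p := orderOf_pow_of_dvd hne hdvd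
  have hcop : (orderOf (γ ^ (p ^ (orderOf γ).factorization p))).Coprime p := by
    rw [hord]
    exact (Nat.coprime_ordCompl hpp hpos.ne').symm
  exact aut_fix_of_omega hp _ hcop W hW (pow_invariant γ W hinv _)
    (fun x hx hxp => pow_fix γ x (hfix x hx hxp) _)

theorem exists_pow_fix_of_chain [Finite R₀] {p : ℕ} [Fact p.Prime] (hP : IsPGroup p R₀)
    (β : MulAut R₀) (N : ℕ → Subgroup R₀) (m : ℕ)
    (hbase : ∃ k : ℕ, ∀ x ∈ N m, (β ^ (p ^ k)) x = x)
    (hstep : ∀ i < m, (∀ x ∈ N i, β x ∈ N i) ∧ (∀ x ∈ N i, x⁻¹ * β x ∈ N (i + 1))) :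
    ∃ k : ℕ, ∀ x ∈ N 0, (β ^ (p ^ k)) x = x := by
  have key : ∀ j ≤ m, ∃ k : ℕ, ∀ x ∈ N (m - j), (β ^ (p ^ k)) x = x := by
    intro j
    induction j with
    | zero =>
      intro _
      exact hbase
    | succ j ih =>
      intro hj
      obtain ⟨k, hk⟩ := ih (by omega)
      have hi : m - (j + 1) < m := by omega
      have hi' : m - (j + 1) + 1 = m - j := by omega
      obtain ⟨h1, h2⟩ := hstep _ hi
      rw [hi'] at h2
      obtain ⟨b, hb⟩ := IsPGroup.iff_card.mp (hP.to_subgroup (N (m - j)))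
      refine ⟨k + b, ?_⟩
      have h3 := pow_fix_step β (N (m - (j + 1))) (N (m - j)) h1 h2 (p ^ k) hk
      rw [hb, ← pow_add] at h3
      exact h3
  obtain ⟨k, hk⟩ := key m le_rfl
  refine ⟨k, ?_⟩
  intro x hx
  have h4 : x ∈ N (m - m) := by
    rw [Nat.sub_self]
    exact hx
  exact hk x h4

end omega

section fus

variable {Ω : Type u} [Group Ω] {S : Subgroup Ω}

theorem omegaOne_le (p : ℕ) (P : Subgroup Ω) : omegaOne p P ≤ P :=
  (Subgroup.closure_le _).mpr fun _ hx => hx.1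

theorem omegaOne_eq_map (p : ℕ) (P : Subgroup Ω) :
    omegaOne p P = (Subgroup.closure {x : P | x ^ p = 1}).map P.subtype := by
  show Subgroup.closure {x : Ω | x ∈ P ∧ x ^ p = 1} = _
  rw [MonoidHom.map_closure]
  congr 1
  ext y
  constructor
  · rintro ⟨hy, hyp⟩
    exact ⟨⟨y, hy⟩, Subtype.ext hyp, rfl⟩
  · rintro ⟨x, hx, rfl⟩
    refine ⟨x.2, ?_⟩
    have h1 : ((x ^ p : P) : Ω) = ((1 : P) : Ω) := congrArg (fun z : P => (z : Ω)) hx
    simpa using h1

theorem omegaOne_characteristic (p : ℕ) (P : Subgroup Ω) :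
    ((omegaOne p P).subgroupOf P).Characteristic := by
  have h1 : (omegaOne p P).subgroupOf P = Subgroup.closure {x : P | x ^ p = 1} := by
    rw [omegaOne_eq_map]
    exact Subgroup.comap_map_eq_self_of_injective (Subgroup.subtype_injective P) _
  rw [h1]
  apply Subgroup.characteristic_iff_map_le.mpr
  intro ϕ
  rw [MonoidHom.map_closure]
  apply (Subgroup.closure_le _).mpr
  rintro _ ⟨x, hx, rfl⟩
  apply Subgroup.subset_closure
  show (ϕ x) ^ p = 1
  have hx' : x ^ p = 1 := hx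
  rw [← map_pow, hx', map_one]

theorem omegaOne_isNormal (F : FusionSystem S) (p : ℕ) {P : Subgroup Ω} (hP : F.IsNormal P) :
    F.IsNormal (omegaOne p P) :=
  Cfsg.Agent.S5085.result F P _ hP (omegaOne_le p P) (omegaOne_characteristic p P)

theorem stronglyClosed_inf (F : FusionSystem S) {A B : Subgroup Ω} (hA : F.StronglyClosed A)
    (hB : F.StronglyClosed B) : F.StronglyClosed (A ⊓ B) :=
  ⟨le_trans inf_le_left hA.1, fun R hR φ hφ x =>
    ⟨hA.2 R (le_trans hR inf_le_left) φ hφ x, hB.2 R (le_trans hR inf_le_right) φ hφ x⟩⟩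

end fus

end Cfsg.Agent.Lib.Helper26
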