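import Mathlib

/-!
# Generic `p`-group lemmas for generalized extraspecial groups (helper26)
-/

set_option autoImplicit false

namespace Cfsg.Agent.Lib.Helper26

section pgroup

theorem le_center_of_card_prime {P : Type*} [Group P] [Finite P] {p : ℕ} [Fact p.Prime]
    (hP : IsPGroup p P) (N : Subgroup P) [N.Normal] (hN : Nat.card N = p) :
    N ≤ Subgroup.center P := by
  have hP' : IsPGroup p (ConjAct P) := hP
  have h1 : (1 : N) ∈ MulAction.fixedPoints (ConjAct P) N := by
    intro g
    exact smul_one g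
  obtain ⟨b, hb, hb1⟩ := hP'.exists_fixed_point_of_prime_dvd_card_of_fixed_point (α := N)
    (by rw [hN]) h1
  have hb' : b ≠ 1 := fun h => hb1 h.symm
  intro n hn
  have hmem : (⟨n, hn⟩ : N) ∈ Subgroup.zpowers b := mem_zpowers_of_prime_card hN hb'
  obtain ⟨k, hk⟩ := Subgroup.mem_zpowers_iff.mp hmem
  rw [Subgroup.mem_center_iff]
  intro g
  have hbc : g * (b : P) * g⁻¹ = (b : P) := by
    have h2 := congrArg Subtype.val (hb (ConjAct.toConjAct g))
    rw [ConjAct.Subgroup.val_conj_smul, ConjAct.smul_def, ConjAct.ofConjAct_toConjAct] at h2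
    exact h2
  have hn' : n = (b : P) ^ k := by
    have h3 := congrArg Subtype.val hk
    rw [Subgroup.coe_zpow] at h3
    exact h3.symm
  rw [hn']
  have hcomm : Commute g (b : P) := by
    show g * (b : P) = (b : P) * g
    calc g * (b : P) = (g * b * g⁻¹) * g := by group
      _ = b * g := by rw [hbc]
  exact (hcomm.zpow_right k).eq

theorem pow_mem_frattini {P : Type*} [Group P] [Finite P] {p : ℕ} [Fact p.Prime]
    (hP : IsPGroup p P) (a : P) : a ^ p ∈ frattini P := by
  have hp := (Fact.out : p.Prime)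
  unfold frattini Order.radical
  simp only [Subgroup.mem_iInf]
  intro M hM
  have hnil : Group.IsNilpotent P := hP.isNilpotent
  have hnc : NormalizerCondition P := Group.normalizerCondition_of_isNilpotent
  haveI hMn : M.Normal := Subgroup.NormalizerCondition.normal_of_coatom M hnc hM
  have hQp : IsPGroup p (P ⧸ M) := hP.to_quotient M
  have hdvd : p ∣ Nat.card (P ⧸ M) := by
    obtain ⟨k, hk⟩ := IsPGroup.iff_card.mp hQp
    rcases Nat.eq_zero_or_pos k with h0 | h0
    · exfalso
      rw [h0, pow_zero] at hk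
      have h1 : M.index = 1 := hk
      exact hM.1 (Subgroup.index_eq_one.mp h1)
    · rw [hk]
      exact dvd_pow_self p h0.ne'
  obtain ⟨cb, hcb⟩ := exists_prime_orderOf_dvd_card' p hdvd
  obtain ⟨c, rfl⟩ := QuotientGroup.mk'_surjective M cb
  have hle : M ≤ (Subgroup.zpowers (QuotientGroup.mk' M c)).comap (QuotientGroup.mk' M) := by
    intro m hm
    rw [Subgroup.mem_comap]
    have h1 : QuotientGroup.mk' M m = 1 := (QuotientGroup.eq_one_iff m).mpr hm
    rw [h1]
    exact Subgroup.one_mem _
  have hcM : c ∉ M := by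
    intro h
    have h1 : QuotientGroup.mk' M c = 1 := (QuotientGroup.eq_one_iff c).mpr h
    rw [h1, orderOf_one] at hcb
    exact hp.one_lt.ne hcb
  have hlt : M < (Subgroup.zpowers (QuotientGroup.mk' M c)).comap (QuotientGroup.mk' M) :=
    lt_of_le_of_ne hle (fun h => hcM (h ▸ (Subgroup.mem_comap.mpr (Subgroup.mem_zpowers _))))
  have htop := hM.2 _ hlt
  have ha : QuotientGroup.mk' M a ∈ Subgroup.zpowers (QuotientGroup.mk' M c) := by
    have h1 : a ∈ (Subgroup.zpowers (QuotientGroup.mk' M c)).comap (QuotientGroup.mk' M) :=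
      htop ▸ Subgroup.mem_top a
    exact h1
  obtain ⟨k, hk⟩ := Subgroup.mem_zpowers_iff.mp ha
  have h2 : QuotientGroup.mk' M (a ^ p) = 1 := by
    rw [map_pow, ← hk, ← zpow_natCast, ← zpow_mul, mul_comm, zpow_mul, zpow_natCast, ← hcb,
      pow_orderOf_eq_one, one_zpow]
  exact (QuotientGroup.eq_one_iff _).mp h2

theorem mul_pow_of_central_comm {G : Type*} [Group G] (a b d : G) (hd : b * a = a * b * d)
    (hdc : ∀ g : G, g * d = d * g) (n : ℕ) :
    (a * b) ^ n = a ^ n * b ^ n * d ^ (n * (n - 1) / 2) := by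
  have hc : ∀ (k : ℕ) (g : G), d ^ k * g = g * d ^ k := fun k g =>
    ((show Commute d g from (hdc g).symm).pow_left k).eq
  have h1 : ∀ n : ℕ, b ^ n * a = a * b ^ n * d ^ n := by
    intro n
    induction n with
    | zero => simp
    | succ n ih =>
      calc b ^ (n + 1) * a = b * (b ^ n * a) := by rw [pow_succ', mul_assoc]
        _ = b * (a * b ^ n * d ^ n) := by rw [ih]
        _ = (b * a) * b ^ n * d ^ n := by simp only [mul_assoc]
        _ = a * b * (d * b ^ n) * d ^ n := by rw [hd]; simp only [mul_assoc]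
        _ = a * b * (b ^ n * d) * d ^ n := by
            have := hc 1 (b ^ n)
            rw [pow_one] at this
            rw [this]
        _ = a * b ^ (n + 1) * d ^ (n + 1) := by
            rw [pow_succ' b n, pow_succ' d n]
            simp only [mul_assoc]
  induction n with
  | zero => simp
  | succ n ih =>
    have hT : (n + 1) * (n + 1 - 1) / 2 = n * (n - 1) / 2 + n := Nat.triangle_succ n
    calc (a * b) ^ (n + 1) = (a * b) ^ n * (a * b) := pow_succ _ _
      _ = a ^ n * b ^ n * d ^ (n * (n - 1) / 2) * (a * b) := by rw [ih]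
      _ = a ^ n * b ^ n * (d ^ (n * (n - 1) / 2) * (a * b)) := by simp only [mul_assoc]
      _ = a ^ n * b ^ n * ((a * b) * d ^ (n * (n - 1) / 2)) := by rw [hc _ (a * b)]
      _ = a ^ n * (b ^ n * a) * b * d ^ (n * (n - 1) / 2) := by simp only [mul_assoc]
      _ = a ^ n * (a * b ^ n * d ^ n) * b * d ^ (n * (n - 1) / 2) := by rw [h1]
      _ = a ^ n * a * b ^ n * (d ^ n * b) * d ^ (n * (n - 1) / 2) := by simp only [mul_assoc]
      _ = a ^ n * a * b ^ n * (b * d ^ n) * d ^ (n * (n - 1) / 2) := by rw [hc n b]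
      _ = a ^ (n + 1) * b ^ (n + 1) * d ^ ((n + 1) * (n + 1 - 1) / 2) := by
          rw [hT, pow_succ a n, pow_succ b n, pow_add d, hc (n * (n - 1) / 2) (d ^ n)]
          simp only [mul_assoc]

theorem exists_compl_of_elementary {V : Type*} [CommGroup V] {p : ℕ} [Fact p.Prime]
    (hexp : ∀ v : V, v ^ p = 1) (Z : Subgroup V) : ∃ A : Subgroup V, Z ⊓ A = ⊥ ∧ Z ⊔ A = ⊤ := by
  haveI : Module (ZMod p) (Additive V) := AddCommGroup.zmodModule (fun x => by
    show Additive.ofMul (Additive.toMul x ^ p) = 0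
    rw [hexp]
    rfl)
  let ω : Subgroup V ≃o Submodule (ZMod p) (Additive V) :=
    Subgroup.toAddSubgroup.trans (AddSubgroup.toZModSubmodule p)
  obtain ⟨W', hW'⟩ := Submodule.exists_isCompl (ω Z)
  refine ⟨ω.symm W', ?_, ?_⟩
  · apply ω.injective
    rw [map_inf, OrderIso.apply_symm_apply, hW'.inf_eq_bot, map_bot]
  · apply ω.injective
    rw [map_sup, OrderIso.apply_symm_apply, hW'.sup_eq_top, map_top]

end pgroup

end Cfsg.Agent.Lib.Helper26
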