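import Mathlib
import Cfsg.Agent.Lib.Helper26.FusStab
import Cfsg.Agent.Lib.Helper26.FusSat2
import Cfsg.Agent.S5087
import Cfsg.Agent.S5080

/-!
# Strongly closed subgroups with central commutator subgroup of prime order (helper26)
-/

set_option autoImplicit false

namespace Cfsg.Agent.Lib.Helper26

open Cfsg Cfsg.FusionSystem

universe u

variable {Ω : Type u} [Group Ω] {S : Subgroup Ω}

/-- If a conjugate `Z₁ ≠ Z₀` of `Z₀` exists, the centralizer of `Z₁` in `P` is elementary abelian. -/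
theorem elemAb_centralizer_of_conj_ne [Finite S] {p : ℕ} [Fact p.Prime] (hS : IsPGroup p S)
    (F : FusionSystem S) (hF : F.IsSaturated p) {P Z₀ Z₁ : Subgroup Ω} (hP : F.StronglyClosed P)
    (hZP : Z₀ ≤ P) (hZp : Nat.card Z₀ = p) (hZn : S ≤ Subgroup.normalizer (Z₀ : Set Ω))
    (hcomm : ∀ a ∈ P, ∀ b ∈ P, a * b * a⁻¹ * b⁻¹ ∈ Z₀) (hpow : ∀ a ∈ P, a ^ p ∈ Z₀)
    (hconj : F.IsConj Z₀ Z₁) (hne : Z₁ ≠ Z₀) :
    ∀ a ∈ P ⊓ Subgroup.centralizer (Z₁ : Set Ω), ∀ b ∈ P ⊓ Subgroup.centralizer (Z₁ : Set Ω),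
      a * b = b * a ∧ a ^ p = 1 := by
  have hp := (Fact.out : p.Prime)
  have hPS := hP.1
  have hZS : Z₀ ≤ S := hZP.trans hPS
  haveI : Finite Z₀ := finite_of_le hZS
  have hfn : F.IsFullyNormalized Z₀ := by
    refine ⟨hZS, fun Q _ => ?_⟩
    have h1 : normalizerIn S Z₀ = S := by
      apply le_antisymm (normalizerIn_le S Z₀)
      intro s hs
      exact mem_normalizerIn_iff.mpr ⟨hs, hZn hs⟩
    rw [h1]
    exact Subgroup.card_le_of_le (normalizerIn_le S Q)
  have hrec := fullyCentralized_receptive hS F hF (fullyNormalized_props hS F hF hfn).1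
  obtain ⟨ψ, hψ, hψr⟩ := isConj_symm F hconj
  obtain ⟨ψt, hψt, hext⟩ := hrec.2 Z₁ ψ hψ hψr
  have hZ₁S : Z₁ ≤ S := (F.le_of_mem hψ).1
  haveI : Finite Z₁ := finite_of_le hZ₁S
  have hZ₁P : Z₁ ≤ P := by
    obtain ⟨φ, hφ, hφr⟩ := hconj
    rw [← hφr]
    rintro _ ⟨x, rfl⟩
    exact hP.2 Z₀ hZP φ hφ x
  have hZ₁p : Nat.card Z₁ = p := by rw [← isConj_card F hconj, hZp]
  -- `Z₁` is abelian
  have hZ₁ab : ∀ u ∈ Z₁, ∀ v ∈ Z₁, u * v = v * u := by
    intro u hu v hv
    by_cases hu1 : (⟨u, hu⟩ : Z₁) = 1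
    · have : u = 1 := congrArg Subtype.val hu1
      rw [this, one_mul, mul_one]
    · obtain ⟨k, hk⟩ := Subgroup.mem_zpowers_iff.mp
        (mem_zpowers_of_prime_card hZ₁p hu1 (g' := (⟨v, hv⟩ : Z₁)))
      have hv' : v = u ^ k := by
        have h3 := congrArg Subtype.val hk
        rw [Subgroup.coe_zpow] at h3
        exact h3.symm
      rw [hv']
      exact ((Commute.refl u).zpow_right k).eq
  have hC₁ext : P ⊓ Subgroup.centralizer (Z₁ : Set Ω) ≤ extender S Z₁ ψ := by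
    intro g hg
    exact centralizerIn_le_extender S Z₁ ψ (mem_centralizerIn_iff.mpr ⟨hPS hg.1, hg.2⟩)
  have hZ₁C : Z₁ ≤ P ⊓ Subgroup.centralizer (Z₁ : Set Ω) := by
    intro u hu
    refine ⟨hZ₁P hu, Subgroup.mem_centralizer_iff.mpr ?_⟩
    intro v hv
    exact hZ₁ab v hv u hu
  have hρ := restrict_mem F hψt hC₁ext
  have hρinj := F.injective_of_mem hρ
  have hρP : ∀ x : ↥(P ⊓ Subgroup.centralizer (Z₁ : Set Ω)),
      (ψt.comp (Subgroup.inclusion hC₁ext)) x ∈ P := fun x => hP.2 _ inf_le_left _ hρ x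
  intro a ha b hb
  by_contra hcon
  -- a nontrivial element of `Z₀` in the centralizer whose image lies in `Z₀`
  have hz : ∃ zc : ↥(P ⊓ Subgroup.centralizer (Z₁ : Set Ω)), (zc : Ω) ∈ Z₀ ∧ zc ≠ 1 ∧
      (ψt.comp (Subgroup.inclusion hC₁ext)) zc ∈ Z₀ := by
    rcases not_and_or.mp hcon with h | h
    · refine ⟨⟨a, ha⟩ * ⟨b, hb⟩ * ⟨a, ha⟩⁻¹ * ⟨b, hb⟩⁻¹, hcomm a ha.1 b hb.1, ?_, ?_⟩
      · intro h1
        apply h
        have h2 : a * b * a⁻¹ * b⁻¹ = 1 := congrArg Subtype.val h1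
        calc a * b = (a * b * a⁻¹ * b⁻¹) * (b * a) := by group
          _ = b * a := by rw [h2, one_mul]
      · rw [map_mul, map_mul, map_mul, map_inv, map_inv]
        exact hcomm _ (hρP _) _ (hρP _)
    · refine ⟨⟨a, ha⟩ ^ p, hpow a ha.1, ?_, ?_⟩
      · intro h1
        apply h
        have h2 := congrArg Subtype.val h1
        rw [Subgroup.coe_pow] at h2
        exact h2
      · rw [map_pow]
        exact hpow _ (hρP _)
  obtain ⟨zc, hzZ, hz1, hρz⟩ := hz
  have hrange : (ψt.comp (Subgroup.inclusion hC₁ext)) zc ∈ ψ.range := by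
    rw [hψr]
    exact hρz
  obtain ⟨y, hy⟩ := hrange
  have h1 : (ψt.comp (Subgroup.inclusion hC₁ext)) ⟨(y : Ω), hZ₁C y.2⟩ = ψ y :=
    hext (y : Ω) y.2 (hC₁ext (hZ₁C y.2))
  have h2 : (⟨(y : Ω), hZ₁C y.2⟩ : ↥(P ⊓ Subgroup.centralizer (Z₁ : Set Ω))) = zc :=
    hρinj (h1.trans hy)
  have hzZ₁ : (zc : Ω) ∈ Z₁ := by
    rw [← h2]
    exact y.2
  have hzne : (zc : Ω) ≠ 1 := fun h => hz1 (Subtype.ext h)
  apply hne
  symm
  apply Subgroup.eq_of_le_of_card_ge
  · intro w hw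
    have hz' : (⟨(zc : Ω), hzZ⟩ : Z₀) ≠ 1 := fun h => hzne (congrArg Subtype.val h)
    obtain ⟨k, hk⟩ := Subgroup.mem_zpowers_iff.mp
      (mem_zpowers_of_prime_card hZp hz' (g' := (⟨w, hw⟩ : Z₀)))
    have hw' : w = (zc : Ω) ^ k := by
      have h3 := congrArg Subtype.val hk
      rw [Subgroup.coe_zpow] at h3
      exact h3.symm
    rw [hw']
    exact Z₁.zpow_mem hzZ₁ k
  · rw [hZ₁p, hZp]

/-- A strongly closed subgroup with a weakly closed central subgroup `Z₀` of order `p`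
containing all its commutators is normal in the system. -/
theorem isNormal_of_weaklyClosed_center [Finite S] {p : ℕ} [Fact p.Prime] (hS : IsPGroup p S)
    (F : FusionSystem S) (hF : F.IsSaturated p) {P Z₀ : Subgroup Ω} (hP : F.StronglyClosed P)
    (hZP : Z₀ ≤ P) (hZp : Nat.card Z₀ = p)
    (hcomm : ∀ a ∈ P, ∀ b ∈ P, a * b * a⁻¹ * b⁻¹ ∈ Z₀)
    (hcen : ∀ z ∈ Z₀, ∀ g ∈ P, g * z = z * g)
    (hwc : ∀ Z₁ : Subgroup Ω, F.IsConj Z₀ Z₁ → Z₁ = Z₀) : F.IsNormal P := by
  have hp := (Fact.out : p.Prime)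
  have hPS := hP.1
  have hZS : Z₀ ≤ S := hZP.trans hPS
  haveI : Finite Z₀ := finite_of_le hZS
  rw [Cfsg.Agent.S5087.result p hS F hF P]
  intro R hR
  have hRS : R ≤ S := by
    rcases hR with rfl | hess
    · exact le_rfl
    · exact hess.1.1
  have hinv : ∀ α ∈ F.autGroup R, (P.subgroupOf R).map α.toMonoidHom = P.subgroupOf R := by
    intro α hα
    apply le_antisymm
    · rintro _ ⟨x, hx, rfl⟩
      exact Subgroup.mem_subgroupOf.mpr
        (stronglyClosed_aut_invariant F hP hRS hα x (Subgroup.mem_subgroupOf.mp hx))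
    · intro x hx
      refine ⟨α⁻¹ x, Subgroup.mem_subgroupOf.mpr
        (stronglyClosed_aut_invariant F hP hRS (inv_mem hα) x (Subgroup.mem_subgroupOf.mp hx)), ?_⟩
      show α (α⁻¹ x) = x
      exact MulAut.apply_inv_self _ α x
  refine ⟨?_, hinv⟩
  rcases hR with rfl | hess
  · exact hP.1
  · have hrad := Cfsg.Agent.S5080.result p hS F hF R hess
    refine le_of_chain hS F hess.1 hrad hP (F.autGroup R) le_rfl
      (fun α hα β hβ => Subgroup.mul_mem _ (Subgroup.mul_mem _ hα hβ) (Subgroup.inv_mem _ hα))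
      (fun i => if i = 0 then P else if i = 1 then Z₀ else ⊥) 2 rfl ?_ ?_ ?_ ?_
    · intro i hi α hα x hx
      interval_cases i
      · exact stronglyClosed_aut_invariant F hP hRS hα x hx
      · have hx' : (x : Ω) ∈ Z₀ := hx
        show ((α x : R) : Ω) ∈ Z₀
        by_cases hx1 : x = 1
        · rw [hx1, map_one]
          exact Z₀.one_mem
        · have hxne : (⟨(x : Ω), hx'⟩ : Z₀) ≠ 1 := by
            intro h
            have h' : (x : Ω) = 1 := Subtype.ext_iff.mp h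
            exact hx1 (Subtype.ext h')
          have hZR : Z₀ ≤ R := by
            intro w hw
            obtain ⟨k, hk⟩ := Subgroup.mem_zpowers_iff.mp
              (mem_zpowers_of_prime_card hZp hxne (g' := (⟨w, hw⟩ : Z₀)))
            have hw' : w = (x : Ω) ^ k := by
              have h3 := congrArg Subtype.val hk
              rw [Subgroup.coe_zpow] at h3
              exact h3.symm
            rw [hw']
            exact R.zpow_mem x.2 k
          have hθ := restrict_mem F (autGroup_hom_mem F hRS hα) hZR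
          have h1 := hwc _ ⟨_, hθ, rfl⟩
          have h2 : ((R.subtype.comp α.toMonoidHom).comp (Subgroup.inclusion hZR)) ⟨(x : Ω), hx'⟩ ∈
              ((R.subtype.comp α.toMonoidHom).comp (Subgroup.inclusion hZR)).range := ⟨_, rfl⟩
          rw [h1] at h2
          exact h2
      · have hx' : (x : Ω) ∈ (⊥ : Subgroup Ω) := hx
        have hx1 : x = 1 := Subtype.ext (Subgroup.mem_bot.mp hx')
        show ((α x : R) : Ω) ∈ (⊥ : Subgroup Ω)
        rw [hx1, map_one]
        exact Subgroup.one_mem _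
    · intro i hi g hg x hx
      interval_cases i
      · have hx' : x ∈ P := hx
        show x⁻¹ * (g * x * g⁻¹) ∈ Z₀
        have h1 := hcomm x⁻¹ (P.inv_mem hx') g hg
        rw [inv_inv] at h1
        have e : x⁻¹ * (g * x * g⁻¹) = x⁻¹ * g * x * g⁻¹ := by group
        rw [e]
        exact h1
      · have hx' : x ∈ Z₀ := hx
        show x⁻¹ * (g * x * g⁻¹) ∈ (⊥ : Subgroup Ω)
        rw [hcen x hx' g hg]
        rw [Subgroup.mem_bot]
        group
    · intro β _
      refine ⟨0, fun x hx => ?_⟩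
      have hx' : (x : Ω) ∈ (⊥ : Subgroup Ω) := hx
      have hx1 : x = 1 := Subtype.ext (Subgroup.mem_bot.mp hx')
      rw [hx1, map_one]
    · intro g hg hgP
      exact autInducedBy_le_autGroup F hRS (conj_mem_autInducedBy (hPS hgP) hg)

end Cfsg.Agent.Lib.Helper26
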