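import Mathlib
import Cfsg.Agent.Lib.Helper26.GenExA
import Cfsg.Agent.Lib.Helper26.GenExD
import Cfsg.Agent.Lib.Helper26.FusFactor
import Cfsg.Agent.Lib.Helper26.FusNorm

/-!
# Exponent `p ^ 2` case for strongly closed generalized extraspecial subgroups (helper26)
-/

set_option autoImplicit false

namespace Cfsg.Agent.Lib.Helper26

open Cfsg Cfsg.FusionSystem

universe u

section braid

theorem braid_square_comm {V : Type*} [CommGroup V] (t s : MulAut V) (z₀ z₁ : V)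
    (ht : ∀ c : V, ∃ k : ℤ, t c = z₀ ^ k * c) (hs : ∀ c : V, ∃ k : ℤ, s c = z₁ ^ k * c)
    (ht0 : t z₀ = z₀) (ht1 : t z₁ = z₀ * z₁) (hs1 : s z₁ = z₁) (hs0 : s z₀ = z₁⁻¹ * z₀) :
    ((t * s * t) * (t * s * t)) * t = t * ((t * s * t) * (t * s * t)) ∧
      ((t * s * t) * (t * s * t)) z₀ = z₀⁻¹ := by
  have hb : t * s * t = s * t * s := by
    ext c
    obtain ⟨a, ha⟩ := ht c
    obtain ⟨b, hb⟩ := hs c
    simp only [MulAut.mul_apply, ha, hb, map_mul, map_zpow, map_inv, ht0, ht1, hs0, hs1]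
    apply Additive.ofMul.injective
    simp only [ofMul_mul, ofMul_inv, ofMul_zpow, smul_add, smul_neg]
    abel
  have h1 : (t * s * t) * t = s * (t * s * t) := by
    conv_lhs => rw [hb]
    simp only [mul_assoc]
  have h2 : (t * s * t) * s = t * (t * s * t) := by
    conv_rhs => rw [hb]
    simp only [mul_assoc]
  constructor
  · calc ((t * s * t) * (t * s * t)) * t = (t * s * t) * ((t * s * t) * t) := mul_assoc _ _ _
      _ = (t * s * t) * (s * (t * s * t)) := by rw [h1]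
      _ = ((t * s * t) * s) * (t * s * t) := (mul_assoc _ _ _).symm
      _ = (t * (t * s * t)) * (t * s * t) := by rw [h2]
      _ = t * ((t * s * t) * (t * s * t)) := mul_assoc _ _ _
  · simp only [MulAut.mul_apply, ht0, hs0, map_mul, map_inv, ht1, hs1]
    apply Additive.ofMul.injective
    simp only [ofMul_mul, ofMul_inv]
    abel

theorem braid_square {V : Type*} [Group V] (hc : ∀ a b : V, a * b = b * a) (t s : MulAut V)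
    (z₀ z₁ : V)
    (ht : ∀ c : V, ∃ k : ℤ, t c = z₀ ^ k * c) (hs : ∀ c : V, ∃ k : ℤ, s c = z₁ ^ k * c)
    (ht0 : t z₀ = z₀) (ht1 : t z₁ = z₀ * z₁) (hs1 : s z₁ = z₁) (hs0 : s z₀ = z₁⁻¹ * z₀) :
    ((t * s * t) * (t * s * t)) * t = t * ((t * s * t) * (t * s * t)) ∧
      ((t * s * t) * (t * s * t)) z₀ = z₀⁻¹ := by
  letI : CommGroup V := { ‹Group V› with mul_comm := hc }
  exact braid_square_comm t s z₀ z₁ ht hs ht0 ht1 hs1 hs0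

end braid

section pow

variable {G : Type*} [Group G]

theorem comm_pow_eq (g v : G) (hd : g * (g * v * g⁻¹ * v⁻¹) = (g * v * g⁻¹ * v⁻¹) * g) (n : ℕ) :
    g ^ n * v * (g ^ n)⁻¹ * v⁻¹ = (g * v * g⁻¹ * v⁻¹) ^ n := by
  have key : ∀ w : G, g * w * v * (g * w)⁻¹ * v⁻¹ =
      g * (w * v * w⁻¹ * v⁻¹) * (v * g⁻¹ * v⁻¹) := fun w => by group
  induction n with
  | zero => simp
  | succ n ih =>
    have hc : g * (g * v * g⁻¹ * v⁻¹) ^ n = (g * v * g⁻¹ * v⁻¹) ^ n * g :=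
      ((show Commute g (g * v * g⁻¹ * v⁻¹) from hd).pow_right n).eq
    calc g ^ (n + 1) * v * (g ^ (n + 1))⁻¹ * v⁻¹
        = g * (g ^ n * v * (g ^ n)⁻¹ * v⁻¹) * (v * g⁻¹ * v⁻¹) := by rw [pow_succ', key]
      _ = g * (g * v * g⁻¹ * v⁻¹) ^ n * (v * g⁻¹ * v⁻¹) := by rw [ih]
      _ = (g * v * g⁻¹ * v⁻¹) ^ n * g * (v * g⁻¹ * v⁻¹) := by rw [hc]
      _ = (g * v * g⁻¹ * v⁻¹) ^ n * (g * v * g⁻¹ * v⁻¹) := by simp only [mul_assoc]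
      _ = (g * v * g⁻¹ * v⁻¹) ^ (n + 1) := (pow_succ _ _).symm

theorem exists_zpow_of_prime_card {Z : Subgroup G} {p : ℕ} [Fact p.Prime] (hZp : Nat.card Z = p)
    {z : G} (hz : z ∈ Z) (hz1 : z ≠ 1) {w : G} (hw : w ∈ Z) : ∃ k : ℤ, w = z ^ k := by
  have hz' : (⟨z, hz⟩ : Z) ≠ 1 := fun h => hz1 (congrArg Subtype.val h)
  obtain ⟨k, hk⟩ := Subgroup.mem_zpowers_iff.mp
    (mem_zpowers_of_prime_card hZp hz' (g' := (⟨w, hw⟩ : Z)))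
  refine ⟨k, ?_⟩
  have h3 := congrArg Subtype.val hk
  rw [Subgroup.coe_zpow] at h3
  exact h3.symm

theorem exists_pow_of_prime_card {Z : Subgroup G} [Finite Z] {p : ℕ} [Fact p.Prime]
    (hZp : Nat.card Z = p) {z : G} (hz : z ∈ Z) (hz1 : z ≠ 1) {w : G} (hw : w ∈ Z) :
    ∃ n : ℕ, w = z ^ n := by
  have hz' : (⟨z, hz⟩ : Z) ≠ 1 := fun h => hz1 (congrArg Subtype.val h)
  have h1 : (⟨w, hw⟩ : Z) ∈ Submonoid.powers (⟨z, hz⟩ : Z) :=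
    mem_powers_iff_mem_zpowers.mpr (mem_zpowers_of_prime_card hZp hz')
  obtain ⟨n, hn⟩ := (Submonoid.mem_powers_iff _ _).mp h1
  refine ⟨n, ?_⟩
  have h3 := congrArg Subtype.val hn
  rw [Subgroup.coe_pow] at h3
  exact h3.symm

theorem eq_of_prime_card_of_mem {Z Z' : Subgroup G} [Finite Z'] {p : ℕ} [Fact p.Prime]
    (hZp : Nat.card Z = p) (hZ'p : Nat.card Z' = p) {z : G} (hz : z ∈ Z) (hz' : z ∈ Z')
    (hz1 : z ≠ 1) : Z = Z' := by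
  apply Subgroup.eq_of_le_of_card_ge
  · intro w hw
    obtain ⟨k, rfl⟩ := exists_zpow_of_prime_card hZp hz hz1 hw
    exact Z'.zpow_mem hz' k
  · rw [hZp, hZ'p]

end pow

variable {Ω : Type u} [Group Ω] {S : Subgroup Ω}

theorem exists_hom_centralizer [Finite S] {p : ℕ} [Fact p.Prime] (hS : IsPGroup p S)
    (F : FusionSystem S) (hF : F.IsSaturated p) {Z₀ Z₁ C : Subgroup Ω} (hZS : Z₀ ≤ S)
    (hZn : S ≤ Subgroup.normalizer (Z₀ : Set Ω)) (hconj : F.IsConj Z₀ Z₁) (hCS : C ≤ S)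
    (hCc : C ≤ Subgroup.centralizer (Z₁ : Set Ω)) (hZ₁C : Z₁ ≤ C) :
    ∃ ρ ∈ F.Hom C, (∀ (z : Ω) (hz : z ∈ Z₁), ρ ⟨z, hZ₁C hz⟩ ∈ Z₀) ∧
      ∀ w ∈ Z₀, ∃ (z : Ω) (hz : z ∈ Z₁), ρ ⟨z, hZ₁C hz⟩ = w := by
  have hfn : F.IsFullyNormalized Z₀ := by
    refine ⟨hZS, fun Q _ => ?_⟩
    have h1 : normalizerIn S Z₀ = S := by
      apply le_antisymm (normalizerIn_le S Z₀)
      intro s hs
      exact mem_normalizerIn_iff.mpr ⟨hs, hZn hs⟩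
    rw [h1]
    exact Subgroup.card_le_of_le (normalizerIn_le S Q)
  have hrec := fullyCentralized_receptive hS F hF (fullyNormalized_props hS F hF hfn).1
  obtain ⟨ψ, hψ, hψr⟩ := isConj_symm F hconj
  obtain ⟨ψt, hψt, hext⟩ := hrec.2 Z₁ ψ hψ hψr
  have hCext : C ≤ extender S Z₁ ψ := fun g hg =>
    centralizerIn_le_extender S Z₁ ψ (mem_centralizerIn_iff.mpr ⟨hCS hg, hCc hg⟩)
  refine ⟨ψt.comp (Subgroup.inclusion hCext), restrict_mem F hψt hCext, ?_, ?_⟩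
  · intro z hz
    have h1 : (ψt.comp (Subgroup.inclusion hCext)) ⟨z, hZ₁C hz⟩ = ψ ⟨z, hz⟩ :=
      hext z hz (hCext (hZ₁C hz))
    rw [h1, ← hψr]
    exact ⟨_, rfl⟩
  · intro w hw
    rw [← hψr] at hw
    obtain ⟨y, hy⟩ := hw
    exact ⟨(y : Ω), y.2, (hext (y : Ω) y.2 (hCext (hZ₁C y.2))).trans hy⟩

/-- In the exponent `p ^ 2` case no conjugate `Z₁ ≠ Z₀` exists. -/
theorem false_of_pow_ne_one [Finite S] {p : ℕ} [Fact p.Prime] (hS : IsPGroup p S)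
    (F : FusionSystem S) (hF : F.IsSaturated p) {P Z₀ Z₁ : Subgroup Ω} (hP : F.StronglyClosed P)
    (hZP : Z₀ ≤ P) (hZp : Nat.card Z₀ = p) (hZn : S ≤ Subgroup.normalizer (Z₀ : Set Ω))
    (hcomm : ∀ a ∈ P, ∀ b ∈ P, a * b * a⁻¹ * b⁻¹ ∈ Z₀) (hpow : ∀ a ∈ P, a ^ p ∈ Z₀)
    (hcen : ∀ z ∈ Z₀, ∀ g ∈ P, g * z = z * g)
    (hconj : F.IsConj Z₀ Z₁) (hne : Z₁ ≠ Z₀) (hp2 : p ≠ 2)
    (hx : ∀ x ∈ P, x ∉ Subgroup.centralizer (Z₁ : Set Ω) → x ^ p ≠ 1)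
    {x : Ω} (hxP : x ∈ P) (hxC : x ∉ Subgroup.centralizer (Z₁ : Set Ω)) : False := by
  have hp := (Fact.out : p.Prime)
  have hPS := hP.1
  have hZS : Z₀ ≤ S := hZP.trans hPS
  haveI : Finite Z₀ := finite_of_le hZS
  have hel := elemAb_centralizer_of_conj_ne hS F hF hP hZP hZp hZn hcomm hpow hconj hne
  have hZ₁S : Z₁ ≤ S := isConj_le_right F hconj
  haveI : Finite Z₁ := finite_of_le hZ₁S
  have hZ₁p : Nat.card Z₁ = p := by rw [← isConj_card F hconj, hZp]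
  have hZ₁P : Z₁ ≤ P := by
    obtain ⟨φ, hφ, hφr⟩ := hconj
    rw [← hφr]
    rintro _ ⟨y, rfl⟩
    exact hP.2 Z₀ hZP φ hφ y
  have hodd : 2 ∣ p - 1 := by
    rcases hp.eq_two_or_odd' with h | h
    · exact absurd h hp2
    · obtain ⟨k, hk⟩ := h
      exact ⟨k, by omega⟩
  have hZpow : ∀ z ∈ Z₀, z ^ p = 1 := by
    intro z hz
    have h1 := pow_card_eq_one' (G := ↥Z₀) (x := ⟨z, hz⟩)
    rw [hZp] at h1
    have h2 := congrArg Subtype.val h1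
    rwa [Subgroup.coe_pow] at h2
  -- a generator of `Z₁` not commuting with `x`
  obtain ⟨z₁, hz₁, hz₁x⟩ : ∃ z₁ ∈ Z₁, z₁ * x ≠ x * z₁ := by
    by_contra hcon
    push_neg at hcon
    exact hxC (Subgroup.mem_centralizer_iff.mpr hcon)
  have hz₁1 : z₁ ≠ 1 := by
    rintro rfl
    exact hz₁x (by rw [one_mul, mul_one])
  have hZ₁ab : ∀ u ∈ Z₁, ∀ v ∈ Z₁, u * v = v * u := by
    intro u hu v hv
    obtain ⟨k, rfl⟩ := exists_zpow_of_prime_card hZ₁p hz₁ hz₁1 hu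
    obtain ⟨l, rfl⟩ := exists_zpow_of_prime_card hZ₁p hz₁ hz₁1 hv
    exact (((Commute.refl z₁).zpow_left k).zpow_right l).eq
  obtain ⟨C₁, hC₁def⟩ : ∃ C₁ : Subgroup Ω, C₁ = P ⊓ Subgroup.centralizer (Z₁ : Set Ω) :=
    ⟨_, rfl⟩
  rw [← hC₁def] at hel
  have hC₁P : C₁ ≤ P := hC₁def ▸ inf_le_left
  have hC₁c : C₁ ≤ Subgroup.centralizer (Z₁ : Set Ω) := hC₁def ▸ inf_le_right
  have hC₁S : C₁ ≤ S := hC₁P.trans hPS
  haveI : Finite C₁ := finite_of_le hC₁S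
  have hmemC' : ∀ g ∈ P, g ∈ Subgroup.centralizer (Z₁ : Set Ω) → g ∈ C₁ := fun g hg hgc => by
    rw [hC₁def]
    exact ⟨hg, hgc⟩
  have hmemC : ∀ g ∈ P, g ^ p = 1 → g ∈ C₁ := by
    intro g hg hgp
    by_contra hgC
    exact hx g hg (fun h => hgC (hmemC' g hg h)) hgp
  have hZ₁C : Z₁ ≤ C₁ := fun u hu => hmemC' u (hZ₁P hu)
    (Subgroup.mem_centralizer_iff.mpr (fun v hv => hZ₁ab v hv u hu))
  have hZ₀C : Z₀ ≤ C₁ := fun z hz => hmemC' z (hZP hz)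
    (Subgroup.mem_centralizer_iff.mpr (fun v hv => hcen z hz v (hZ₁P hv)))
  have hpowC : ∀ c : C₁, c ^ p = 1 := fun c =>
    Subtype.ext (by rw [Subgroup.coe_pow]; exact (hel c c.2 c c.2).2)
  have hVc : ∀ a b : C₁, a * b = b * a := fun a b => Subtype.ext ((hel a a.2 b b.2).1)
  have hPn := stronglyClosed_le_normalizer F hP
  have hconjP : ∀ s ∈ S, ∀ g ∈ P, s * g * s⁻¹ ∈ P := fun s hs g hg =>
    (Subgroup.mem_normalizer_iff.mp (hPn hs) g).mp hg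
  have hC₁n : S ≤ Subgroup.normalizer (C₁ : Set Ω) := by
    intro s hs
    apply mem_normalizer_of_conj_mem
    intro g hg
    apply hmemC _ (hconjP s hs g (hC₁P hg))
    rw [conj_pow, (hel g hg g hg).2, mul_one, mul_inv_cancel]
  have hfn : F.IsFullyNormalized C₁ := by
    refine ⟨hC₁S, fun Q _ => ?_⟩
    have h1 : normalizerIn S C₁ = S := by
      apply le_antisymm (normalizerIn_le S C₁)
      intro s hs
      exact mem_normalizerIn_iff.mpr ⟨hs, hC₁n hs⟩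
    rw [h1]
    exact Subgroup.card_le_of_le (normalizerIn_le S Q)
  have hrecC := fullyCentralized_receptive hS F hF (fullyNormalized_props hS F hF hfn).1
  -- the automorphism `e` of `C₁` mapping `Z₁` onto `Z₀`
  obtain ⟨ρ, hρ, hρ1, hρ2⟩ := exists_hom_centralizer hS F hF hZS hZn hconj hC₁S hC₁c hZ₁C
  have hρC : ∀ c : C₁, ρ c ∈ C₁ := by
    intro c
    apply hmemC _ (hP.2 C₁ hC₁P ρ hρ c)
    rw [← map_pow, hpowC c, map_one]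
  have hρrange : ρ.range = C₁ := by
    have hinj := F.injective_of_mem hρ
    apply Subgroup.eq_of_le_of_card_ge
    · rintro _ ⟨c, rfl⟩
      exact hρC c
    · exact le_of_eq (Nat.card_congr (MonoidHom.ofInjective hinj).toEquiv)
  obtain ⟨e, he, hev⟩ : ∃ e : MulAut C₁, e ∈ IsoSet F C₁ C₁ ∧
      ∀ c : C₁, ((e c : C₁) : Ω) = ρ c := exists_iso_of_mem F hρ hρrange
  have heA : e ∈ F.autGroup C₁ := (mem_autGroup_iff F hC₁S).mpr he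
  have hxS : x ∈ S := hPS hxP
  have hxN : x ∈ Subgroup.normalizer (C₁ : Set Ω) := hC₁n hxS
  have hz₁P : z₁ ∈ P := hZ₁P hz₁
  have hz₀Z : x * z₁ * x⁻¹ * z₁⁻¹ ∈ Z₀ := hcomm x hxP z₁ hz₁P
  have hz₀1 : x * z₁ * x⁻¹ * z₁⁻¹ ≠ 1 := by
    intro h
    apply hz₁x
    calc z₁ * x = (x * z₁ * x⁻¹ * z₁⁻¹)⁻¹ * (x * z₁) := by group
      _ = x * z₁ := by rw [h, inv_one, one_mul]
  obtain ⟨z₀, hz₀def⟩ : ∃ z₀ : Ω, z₀ = x * z₁ * x⁻¹ * z₁⁻¹ := ⟨_, rfl⟩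
  rw [← hz₀def] at hz₀Z hz₀1
  obtain ⟨zc₀, hzc₀⟩ : ∃ zc₀ : C₁, zc₀ = ⟨z₀, hZ₀C hz₀Z⟩ := ⟨_, rfl⟩
  obtain ⟨zc₁, hzc₁⟩ : ∃ zc₁ : C₁, zc₁ = ⟨z₁, hZ₁C hz₁⟩ := ⟨_, rfl⟩
  have hzc₀v : (zc₀ : Ω) = z₀ := by rw [hzc₀]
  have hzc₁v : (zc₁ : Ω) = z₁ := by rw [hzc₁]
  have hez₁Z : ((e zc₁ : C₁) : Ω) ∈ Z₀ := by
    rw [hev, hzc₁]
    exact hρ1 z₁ hz₁
  -- `e zc₀` is not central in `P`
  obtain ⟨g, hgP, hgv⟩ : ∃ g ∈ P, g * ((e zc₀ : C₁) : Ω) ≠ ((e zc₀ : C₁) : Ω) * g := by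
    by_contra hcon
    push_neg at hcon
    have hθ := restrict_mem F (autGroup_hom_mem F hC₁S heA) hZ₀C
    obtain ⟨θ, hθdef⟩ : ∃ θ : Z₀ →* Ω,
        θ = (C₁.subtype.comp (MulEquiv.toMonoidHom e)).comp (Subgroup.inclusion hZ₀C) := ⟨_, rfl⟩
    rw [← hθdef] at hθ
    have hθv : ∀ y : Z₀, θ y = ((e (Subgroup.inclusion hZ₀C y) : C₁) : Ω) := fun y => by
      rw [hθdef]
      rfl
    have hconj2 : F.IsConj Z₀ θ.range := ⟨θ, hθ, rfl⟩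
    have hmem2 : ∀ w ∈ θ.range, ∃ k : ℤ, w = ((e zc₀ : C₁) : Ω) ^ k := by
      rintro _ ⟨y, rfl⟩
      obtain ⟨k, hk⟩ := exists_zpow_of_prime_card hZp hz₀Z hz₀1 y.2
      refine ⟨k, ?_⟩
      have h1 : Subgroup.inclusion hZ₀C y = zc₀ ^ k :=
        Subtype.ext (by rw [Subgroup.coe_zpow, hzc₀v]; exact hk)
      rw [hθv, h1, map_zpow, Subgroup.coe_zpow]
    have hne2 : θ.range ≠ Z₀ := by
      intro h
      have h1 : ((e zc₀ : C₁) : Ω) ∈ Z₀ := by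
        rw [← h]
        refine ⟨⟨z₀, hz₀Z⟩, ?_⟩
        rw [hθv, hzc₀]
        rfl
      obtain ⟨z', hz', hz'e⟩ := hρ2 _ h1
      have h2 : e ⟨z', hZ₁C hz'⟩ = e zc₀ := Subtype.ext ((hev _).trans hz'e)
      have h3 : z' = z₀ := by
        have h4 := congrArg Subtype.val (e.injective h2)
        rw [hzc₀v] at h4
        exact h4
      rw [h3] at hz'
      exact hne (eq_of_prime_card_of_mem hZ₁p hZp hz' hz₀Z hz₀1)
    have hel2 := elemAb_centralizer_of_conj_ne hS F hF hP hZP hZp hZn hcomm hpow hconj2 hne2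
    have hPc : ∀ a ∈ P, a ∈ P ⊓ Subgroup.centralizer ((θ.range : Subgroup Ω) : Set Ω) := by
      intro a ha
      refine ⟨ha, Subgroup.mem_centralizer_iff.mpr ?_⟩
      intro w hw
      obtain ⟨k, rfl⟩ := hmem2 w hw
      exact ((show Commute a _ from hcon a ha).zpow_right k).eq.symm
    exact hz₁x ((hel2 z₁ (hPc z₁ hz₁P) x (hPc x hxP)).1)
  have hvP : ((e zc₀ : C₁) : Ω) ∈ P := hC₁P (e zc₀).2
  have hdZ : g * ((e zc₀ : C₁) : Ω) * g⁻¹ * ((e zc₀ : C₁) : Ω)⁻¹ ∈ Z₀ := hcomm g hgP _ hvP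
  have hd1 : g * ((e zc₀ : C₁) : Ω) * g⁻¹ * ((e zc₀ : C₁) : Ω)⁻¹ ≠ 1 := by
    intro h
    apply hgv
    calc g * ((e zc₀ : C₁) : Ω)
        = (g * ((e zc₀ : C₁) : Ω) * g⁻¹ * ((e zc₀ : C₁) : Ω)⁻¹) * (((e zc₀ : C₁) : Ω) * g) := by
          group
      _ = ((e zc₀ : C₁) : Ω) * g := by rw [h, one_mul]
  obtain ⟨n, hn⟩ := exists_pow_of_prime_card hZp hdZ hd1 (Z₀.inv_mem hez₁Z)
  have hx''P : g ^ n ∈ P := P.pow_mem hgP n
  have hx''N : g ^ n ∈ Subgroup.normalizer (C₁ : Set Ω) := hC₁n (hPS hx''P)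
  have hx''v : g ^ n * ((e zc₀ : C₁) : Ω) * (g ^ n)⁻¹ * ((e zc₀ : C₁) : Ω)⁻¹ =
      ((e zc₁ : C₁) : Ω)⁻¹ := by
    rw [hn]
    exact comm_pow_eq g _ (hcen _ hdZ g hgP) n
  -- the automorphisms
  obtain ⟨t, htdef⟩ : ∃ t : MulAut C₁, t = C₁.normalizerMonoidHom ⟨x, hxN⟩ := ⟨_, rfl⟩
  obtain ⟨t'', ht''def⟩ : ∃ t'' : MulAut C₁, t'' = C₁.normalizerMonoidHom ⟨g ^ n, hx''N⟩ :=
    ⟨_, rfl⟩
  have htv : ∀ c : C₁, ((t c : C₁) : Ω) = x * c * x⁻¹ := fun c => by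
    rw [htdef]
    rfl
  have ht''v : ∀ c : C₁, ((t'' c : C₁) : Ω) = g ^ n * c * (g ^ n)⁻¹ := fun c => by
    rw [ht''def]
    rfl
  have htI : t ∈ autInducedBy S C₁ := by
    rw [htdef]
    exact conj_mem_autInducedBy hxS hxN
  have htA : t ∈ F.autGroup C₁ := autInducedBy_le_autGroup F hC₁S htI
  have ht''A : t'' ∈ F.autGroup C₁ := by
    rw [ht''def]
    exact autInducedBy_le_autGroup F hC₁S (conj_mem_autInducedBy (hPS hx''P) hx''N)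
  obtain ⟨s, hsdef⟩ : ∃ s : MulAut C₁, s = e⁻¹ * t'' * e := ⟨_, rfl⟩
  have hsA : s ∈ F.autGroup C₁ := by
    rw [hsdef]
    exact mul_mem (mul_mem (inv_mem heA) ht''A) heA
  have hsv : ∀ c : C₁, s c = e⁻¹ (t'' (e c)) := fun c => by
    rw [hsdef]
    rfl
  have hbt : ∀ c : C₁, ∃ k : ℤ, t c = zc₀ ^ k * c := by
    intro c
    obtain ⟨k, hk⟩ := exists_zpow_of_prime_card hZp hz₀Z hz₀1 (hcomm x hxP c (hC₁P c.2))
    refine ⟨k, Subtype.ext ?_⟩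
    rw [htv, Subgroup.coe_mul, Subgroup.coe_zpow, hzc₀v, ← hk]
    group
  have hbs : ∀ c : C₁, ∃ k : ℤ, s c = zc₁ ^ k * c := by
    intro c
    have h1 : g ^ n * ((e c : C₁) : Ω) * (g ^ n)⁻¹ * ((e c : C₁) : Ω)⁻¹ ∈ Z₀ :=
      hcomm _ hx''P _ (hC₁P (e c).2)
    obtain ⟨z', hz', hz'e⟩ := hρ2 _ h1
    obtain ⟨k, hk⟩ := exists_zpow_of_prime_card hZ₁p hz₁ hz₁1 hz'
    refine ⟨k, ?_⟩
    have h2 : t'' (e c) = e (zc₁ ^ k * c) := by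
      apply Subtype.ext
      rw [ht''v, map_mul, Subgroup.coe_mul]
      have h3 : zc₁ ^ k = ⟨z', hZ₁C hz'⟩ :=
        Subtype.ext (by rw [Subgroup.coe_zpow, hzc₁v]; exact hk.symm)
      rw [h3, hev ⟨z', hZ₁C hz'⟩, hz'e]
      group
    rw [hsv, h2]
    exact MulAut.inv_apply_self _ e _
  have hbt0 : t zc₀ = zc₀ := by
    apply Subtype.ext
    rw [htv, hzc₀v, hcen z₀ hz₀Z x hxP]
    group
  have hbt1 : t zc₁ = zc₀ * zc₁ := by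
    apply Subtype.ext
    rw [htv, Subgroup.coe_mul, hzc₀v, hzc₁v, hz₀def]
    group
  have hbs1 : s zc₁ = zc₁ := by
    rw [hsv]
    have h1 : t'' (e zc₁) = e zc₁ := by
      apply Subtype.ext
      rw [ht''v, hcen _ hez₁Z _ hx''P]
      group
    rw [h1]
    exact MulAut.inv_apply_self _ e _
  have hbs0 : s zc₀ = zc₁⁻¹ * zc₀ := by
    rw [hsv]
    have h1 : t'' (e zc₀) = e (zc₁⁻¹ * zc₀) := by
      apply Subtype.ext
      rw [ht''v, map_mul, map_inv, Subgroup.coe_mul, Subgroup.coe_inv, ← hx''v]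
      group
    rw [h1]
    exact MulAut.inv_apply_self _ e _
  obtain ⟨hcomm_h, hinv_h⟩ := braid_square hVc t s zc₀ zc₁ hbt hbs hbt0 hbt1 hbs1 hbs0
  obtain ⟨h, hhdef⟩ : ∃ h : MulAut C₁, h = (t * s * t) * (t * s * t) := ⟨_, rfl⟩
  rw [← hhdef] at hcomm_h hinv_h
  have hhA : h ∈ F.autGroup C₁ := by
    rw [hhdef]
    exact mul_mem (mul_mem (mul_mem htA hsA) htA) (mul_mem (mul_mem htA hsA) htA)
  have hxext : x ∈ extender S C₁ (C₁.subtype.comp (MulEquiv.toMonoidHom h)) := by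
    apply mem_extender_of_conj_mem h hxS hxN
    have h1 : h * C₁.normalizerMonoidHom ⟨x, hxN⟩ * h⁻¹ = t := by
      rw [← htdef, hcomm_h, mul_inv_cancel_right]
    rw [h1]
    exact htI
  have hhrange : (C₁.subtype.comp (MulEquiv.toMonoidHom h)).range = C₁ := by
    ext y
    constructor
    · rintro ⟨c, rfl⟩
      exact (h c).2
    · intro hy
      refine ⟨h⁻¹ ⟨y, hy⟩, ?_⟩
      show ((h (h⁻¹ ⟨y, hy⟩) : C₁) : Ω) = y
      rw [MulAut.apply_inv_self]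
  obtain ⟨ht', hht', hext'⟩ := hrecC.2 C₁ _ (autGroup_hom_mem F hC₁S hhA) hhrange
  have hC₁ext := le_extender F (autGroup_hom_mem F hC₁S hhA)
  obtain ⟨xh, hxhdef⟩ : ∃ xh : Ω, xh = ht' ⟨x, hxext⟩ := ⟨_, rfl⟩
  have hxhP : xh ∈ P := by
    have h1 := restrict_mem F hht'
      (inf_le_left : extender S C₁ (C₁.subtype.comp (MulEquiv.toMonoidHom h)) ⊓ P ≤ _)
    have h2 := hP.2 _ inf_le_right _ h1 ⟨x, ⟨hxext, hxP⟩⟩
    rw [hxhdef]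
    exact h2
  have hconj_eq : ∀ c' : C₁, xh * (c' : Ω) * xh⁻¹ = x * (c' : Ω) * x⁻¹ := by
    intro c'
    obtain ⟨c, rfl⟩ : ∃ c : C₁, h c = c' := ⟨h⁻¹ c', MulAut.apply_inv_self _ h c'⟩
    have h1 : ht' ⟨((t c : C₁) : Ω), hC₁ext (t c).2⟩ = ((h (t c) : C₁) : Ω) :=
      hext' _ (t c).2 _
    have h2 : ht' ⟨(c : Ω), hC₁ext c.2⟩ = ((h c : C₁) : Ω) := hext' _ c.2 _
    have h3 : (⟨((t c : C₁) : Ω), hC₁ext (t c).2⟩ :
        extender S C₁ (C₁.subtype.comp (MulEquiv.toMonoidHom h))) =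
        ⟨x, hxext⟩ * ⟨(c : Ω), hC₁ext c.2⟩ * ⟨x, hxext⟩⁻¹ := Subtype.ext (htv c)
    rw [h3, map_mul, map_mul, map_inv, h2, ← hxhdef] at h1
    have h4 : h (t c) = t (h c) := DFunLike.congr_fun hcomm_h c
    rw [h1, h4, htv]
  obtain ⟨d, hddef⟩ : ∃ d : Ω, d = x⁻¹ * xh := ⟨_, rfl⟩
  have hdP : d ∈ P := by
    rw [hddef]
    exact P.mul_mem (P.inv_mem hxP) hxhP
  have hdC : d ∈ C₁ := by
    apply hmemC' _ hdP
    rw [Subgroup.mem_centralizer_iff]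
    intro z hz
    have h1 : xh * z * xh⁻¹ = x * z * x⁻¹ := hconj_eq ⟨z, hZ₁C hz⟩
    rw [hddef]
    calc z * (x⁻¹ * xh) = x⁻¹ * (x * z * x⁻¹) * xh := by group
      _ = x⁻¹ * (xh * z * xh⁻¹) * xh := by rw [h1]
      _ = x⁻¹ * xh * z := by group
  have hdp : d ^ p = 1 := (hel _ hdC _ hdC).2
  have hxh : xh = x * d := by
    rw [hddef]
    group
  have hxhp : xh ^ p = x ^ p := by
    obtain ⟨D, hDdef⟩ : ∃ D : Ω, D = d⁻¹ * x⁻¹ * (d⁻¹)⁻¹ * (x⁻¹)⁻¹ := ⟨_, rfl⟩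
    have hDZ : D ∈ Z₀ := by
      rw [hDdef]
      exact hcomm _ (P.inv_mem hdP) _ (P.inv_mem hxP)
    have hDp : D ^ p = 1 := hZpow D hDZ
    have h1 := mul_pow_of_central_comm (G := ↥P) ⟨x, hxP⟩ ⟨d, hdP⟩ ⟨D, hZP hDZ⟩
      (Subtype.ext (by
        show d * x = x * d * D
        rw [hDdef]
        group))
      (fun g' => Subtype.ext (hcen D hDZ g' g'.2)) p
    have h2 := congrArg Subtype.val h1
    simp only [Subgroup.coe_pow, Subgroup.coe_mul] at h2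
    rw [hdp, mul_one, Nat.mul_div_assoc p hodd, pow_mul, hDp, one_pow, mul_one] at h2
    rw [hxh]
    exact h2
  have hxpZ : x ^ p ∈ Z₀ := hpow x hxP
  obtain ⟨k, hk⟩ := exists_zpow_of_prime_card hZp hz₀Z hz₀1 hxpZ
  have hxhp2 : xh ^ p = (x ^ p)⁻¹ := by
    have h1 : ht' ⟨x ^ p, hC₁ext (hZ₀C hxpZ)⟩ = ((h ⟨x ^ p, hZ₀C hxpZ⟩ : C₁) : Ω) :=
      hext' _ _ _
    have h2 : (⟨x ^ p, hC₁ext (hZ₀C hxpZ)⟩ :
        extender S C₁ (C₁.subtype.comp (MulEquiv.toMonoidHom h))) = ⟨x, hxext⟩ ^ p :=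
      Subtype.ext (by rw [Subgroup.coe_pow])
    rw [h2, map_pow, ← hxhdef] at h1
    rw [h1]
    have h3 : (⟨x ^ p, hZ₀C hxpZ⟩ : C₁) = zc₀ ^ k :=
      Subtype.ext (by rw [Subgroup.coe_zpow, hzc₀v]; exact hk)
    rw [h3, map_zpow, hinv_h, Subgroup.coe_zpow, Subgroup.coe_inv, hzc₀v, inv_zpow, ← hk]
  have hsq : (x ^ p) ^ 2 = 1 := by
    have h1 : x ^ p = (x ^ p)⁻¹ := hxhp.symm.trans hxhp2
    have h2 := inv_mul_cancel (x ^ p)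
    rw [← h1] at h2
    rw [pow_two]
    exact h2
  have hpp : (x ^ p) ^ p = 1 := hZpow _ hxpZ
  have hgcd : Nat.gcd 2 p = 1 := (Nat.coprime_primes Nat.prime_two hp).mpr (Ne.symm hp2)
  have hfin : (x ^ p) ^ Nat.gcd 2 p = 1 := pow_gcd_eq_one.mpr ⟨hsq, hpp⟩
  rw [hgcd, pow_one] at hfin
  exact hx x hxP hxC hfin

end Cfsg.Agent.Lib.Helper26
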