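import Mathlib
import Cfsg.Agent.Lib.Helper26.GenExA
import Cfsg.Agent.Lib.Helper26.GenExE
import Cfsg.Agent.Lib.Helper26.FusOmega

/-!
# Metacyclic `p`-groups for odd `p`: elements of order `p` (helper26)
-/

set_option autoImplicit false

namespace Cfsg.Agent.Lib.Helper26

section metacyclic

variable {G : Type*} [Group G]

theorem lte_key_dvd {p : ℕ} (hp : p.Prime) (hp2 : p ≠ 2) (s : ℤ) (m : ℕ)
    (hdvd : ((p ^ m : ℕ) : ℤ) ∣ s ^ p - 1) : ((p ^ m : ℕ) : ℤ) ∣ (p : ℤ) * (s - 1) := by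
  have hfact : Fact p.Prime := ⟨hp⟩
  rcases Nat.eq_zero_or_pos m with rfl | hmpos
  · simp
  have hps : (p : ℤ) ∣ s ^ p - 1 := dvd_trans (by
      push_cast
      exact dvd_pow_self _ hmpos.ne') hdvd
  have hs1 : (p : ℤ) ∣ s - 1 := by
    have h3 : ((s ^ p - 1 : ℤ) : ZMod p) = 0 := (ZMod.intCast_zmod_eq_zero_iff_dvd _ _).mpr hps
    rw [← ZMod.intCast_zmod_eq_zero_iff_dvd]
    push_cast at h3 ⊢
    rw [ZMod.pow_card] at h3
    exact h3
  have hsn : ¬ (p : ℤ) ∣ s := by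
    intro h
    have h4 : (p : ℤ) ∣ 1 := by
      have := dvd_sub h hs1
      simpa using this
    have h5 := Int.natCast_dvd_natCast.mp (by simpa using h4 : ((p : ℕ) : ℤ) ∣ ((1 : ℕ) : ℤ))
    exact hp.one_lt.ne' (Nat.dvd_one.mp h5)
  have hodd : Odd p := hp.odd_of_ne_two hp2
  have hlte := Int.emultiplicity_pow_sub_pow hp hodd (x := s) (y := 1) (by simpa using hs1) hsn p
  rw [one_pow, hp.emultiplicity_self] at hlte
  have hpi : Prime (p : ℤ) := Nat.prime_iff_prime_int.mp hp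
  push_cast at hdvd ⊢
  rw [pow_dvd_iff_le_emultiplicity] at hdvd ⊢
  rw [emultiplicity_mul hpi]
  rw [hlte] at hdvd
  rw [Int.natCast_emultiplicity, hp.emultiplicity_self, add_comm]
  exact hdvd

/-- In a cyclic group, the elements of order dividing `p` are powers of any nontrivial one. -/
theorem cyc_omega_zpow [IsCyclic G] {p : ℕ} [Fact p.Prime] {q₀ q : G} (h0 : q₀ ^ p = 1)
    (h01 : q₀ ≠ 1) (hq : q ^ p = 1) : ∃ k : ℤ, q = q₀ ^ k := by
  have hcomm : ∀ a b : G, a * b = b * a := by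
    intro a b
    obtain ⟨c, hc⟩ := IsCyclic.exists_generator (α := G)
    obtain ⟨i, rfl⟩ := Subgroup.mem_zpowers_iff.mp (hc a)
    obtain ⟨j, rfl⟩ := Subgroup.mem_zpowers_iff.mp (hc b)
    exact (((Commute.refl c).zpow_left i).zpow_right j).eq
  obtain ⟨T, hT⟩ : ∃ T : Subgroup G, ∀ x, x ∈ T ↔ x ^ p = 1 :=
    ⟨{ carrier := {x | x ^ p = 1}
       one_mem' := one_pow p
       mul_mem' := fun {a b} ha hb => by
        show (a * b) ^ p = 1
        rw [(show Commute a b from hcomm a b).mul_pow, ha, hb, one_mul]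
       inv_mem' := fun {a} ha => by
        show a⁻¹ ^ p = 1
        rw [inv_pow, ha, inv_one] }, fun x => Iff.rfl⟩
  obtain ⟨t, ht⟩ := IsCyclic.exists_generator (α := T)
  have htp : (t : G) ^ p = 1 := (hT _).mp t.2
  have hcard : Nat.card T = orderOf t := (orderOf_eq_card_of_forall_mem_zpowers ht).symm
  have ht1 : t ≠ 1 := by
    rintro rfl
    have h1 := ht ⟨q₀, (hT _).mpr h0⟩
    obtain ⟨k, hk⟩ := Subgroup.mem_zpowers_iff.mp h1
    rw [one_zpow] at hk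
    exact h01 (congrArg Subtype.val hk).symm
  have hord : orderOf t = p :=
    orderOf_eq_prime (Subtype.ext (by rw [Subgroup.coe_pow]; exact htp)) ht1
  rw [hord] at hcard
  exact exists_zpow_of_prime_card hcard ((hT _).mpr h0) h01 ((hT _).mpr hq)

theorem central_of_cyclic_normal [Finite G] {p : ℕ} [Fact p.Prime] (hG : IsPGroup p G)
    (N : Subgroup G) [hN : N.Normal] [IsCyclic N] {z : G} (hzN : z ∈ N) (hzp : z ^ p = 1) (g : G) :
    g * z = z * g := by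
  by_cases hz1 : z = 1
  · rw [hz1, mul_one, one_mul]
  have hconj : ∀ g : G, ∃ k : ℤ, g * z * g⁻¹ = z ^ k := by
    intro g
    have h1 : g * z * g⁻¹ ∈ N := hN.conj_mem z hzN g
    have h2 : (⟨g * z * g⁻¹, h1⟩ : N) ^ p = 1 := Subtype.ext (by
      rw [Subgroup.coe_pow]
      show (g * z * g⁻¹) ^ p = 1
      rw [conj_pow, hzp, mul_one, mul_inv_cancel])
    have h3 : (⟨z, hzN⟩ : N) ^ p = 1 := Subtype.ext (by rw [Subgroup.coe_pow]; exact hzp)
    have h4 : (⟨z, hzN⟩ : N) ≠ 1 := fun h => hz1 (congrArg Subtype.val h)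
    obtain ⟨k, hk⟩ := cyc_omega_zpow h3 h4 h2
    refine ⟨k, ?_⟩
    have h5 := congrArg Subtype.val hk
    rw [Subgroup.coe_zpow] at h5
    exact h5
  have hnor : (Subgroup.zpowers z).Normal := by
    constructor
    intro n hn g
    obtain ⟨i, rfl⟩ := Subgroup.mem_zpowers_iff.mp hn
    obtain ⟨k, hk⟩ := hconj g
    rw [← conj_zpow, hk]
    exact Subgroup.zpow_mem _ (Subgroup.zpow_mem _ (Subgroup.mem_zpowers z) k) i
  have hcard : Nat.card (Subgroup.zpowers z) = p := by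
    rw [Nat.card_zpowers, orderOf_eq_prime hzp hz1]
  have h1 := le_center_of_card_prime hG (Subgroup.zpowers z) hcard (Subgroup.mem_zpowers z)
  exact Subgroup.mem_center_iff.mp h1 g

theorem comm_pow_eq_one_of_cyclic [Finite G] {p : ℕ} [Fact p.Prime] (hG : IsPGroup p G)
    (hp2 : p ≠ 2) (N : Subgroup G) [hN : N.Normal] [IsCyclic N] {w : G} (hw : w ^ p = 1) {n : G}
    (hn : n ∈ N) : (w * n * w⁻¹ * n⁻¹) ^ p = 1 := by
  have hp := (Fact.out : p.Prime)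
  obtain ⟨a, ha⟩ := IsCyclic.exists_generator (α := N)
  have h1 : w * (a : G) * w⁻¹ ∈ N := hN.conj_mem _ a.2 w
  obtain ⟨s, hs⟩ := Subgroup.mem_zpowers_iff.mp (ha ⟨_, h1⟩)
  have hs' : w * (a : G) * w⁻¹ = (a : G) ^ s := by
    have h := congrArg Subtype.val hs
    rw [Subgroup.coe_zpow] at h
    exact h.symm
  have hpow : ∀ k : ℕ, w ^ k * (a : G) * (w ^ k)⁻¹ = (a : G) ^ (s ^ k) := by
    intro k
    induction k with
    | zero => simp
    | succ k ih =>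
      have h : w ^ (k + 1) * (a : G) * (w ^ (k + 1))⁻¹ =
          w * (w ^ k * (a : G) * (w ^ k)⁻¹) * w⁻¹ := by
        rw [pow_succ']
        group
      rw [h, ih, ← conj_zpow, hs', ← zpow_mul, pow_succ']
  have h2 : (a : G) ^ (s ^ p - 1) = 1 := by
    have h := hpow p
    rw [hw, one_mul, inv_one, mul_one] at h
    rw [zpow_sub, zpow_one, ← h, mul_inv_cancel]
  have hdvd : (orderOf (a : G) : ℤ) ∣ s ^ p - 1 := orderOf_dvd_iff_zpow_eq_one.mpr h2
  obtain ⟨m, hm⟩ := (IsPGroup.iff_orderOf.mp hG) (a : G)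
  have hkey : (orderOf (a : G) : ℤ) ∣ (p : ℤ) * (s - 1) := by
    rw [hm] at hdvd ⊢
    exact lte_key_dvd hp hp2 s m hdvd
  obtain ⟨j, hj⟩ := Subgroup.mem_zpowers_iff.mp (ha ⟨n, hn⟩)
  have hj' : n = (a : G) ^ j := by
    have h := congrArg Subtype.val hj
    rw [Subgroup.coe_zpow] at h
    exact h.symm
  have h3 : w * n * w⁻¹ * n⁻¹ = (a : G) ^ ((s - 1) * j) := by
    rw [hj', ← conj_zpow, hs', ← zpow_mul, ← zpow_neg, ← zpow_add]
    congr 1
    ring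
  rw [h3, ← zpow_natCast, ← zpow_mul]
  apply orderOf_dvd_iff_zpow_eq_one.mp
  have h4 : (s - 1) * j * (p : ℤ) = ((p : ℤ) * (s - 1)) * j := by ring
  rw [h4]
  exact Dvd.dvd.mul_right hkey j

/-- Structure of the elements of order dividing `p` in a metacyclic `p`-group, `p` odd. -/
theorem metacyclic_omega [Finite G] {p : ℕ} [Fact p.Prime] (hG : IsPGroup p G) (hp2 : p ≠ 2)
    (N : Subgroup G) [hN : N.Normal] [IsCyclic N] [IsCyclic (G ⧸ N)] :
    (∀ x y : G, x ^ p = 1 → y ^ p = 1 → x * y = y * x ∧ (x * y) ^ p = 1) ∧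
    ((∀ x : G, x ^ p = 1 → ∀ g : G, g * x = x * g) ∨
      ∃ z : G, z ≠ 1 ∧ z ^ p = 1 ∧ (∀ g : G, g * z = z * g) ∧
        (∀ v : G, v ^ p = 1 → (∀ g : G, g * v = v * g) → ∃ k : ℤ, v = z ^ k) ∧
        (∀ g v : G, v ^ p = 1 → ∃ k : ℤ, g * v * g⁻¹ * v⁻¹ = z ^ k) ∧
        (∀ z₁ : G, z₁ ^ p = 1 → (∃ g : G, g * z₁ ≠ z₁ * g) → ∀ v : G, v ^ p = 1 →
          ∃ i j : ℤ, v = z ^ i * z₁ ^ j)) := by
  have hp := (Fact.out : p.Prime)
  have hodd : 2 ∣ p - 1 := by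
    rcases hp.eq_two_or_odd' with h | h
    · exact absurd h hp2
    · obtain ⟨k, hk⟩ := h
      exact ⟨k, by omega⟩
  have hzpow : ∀ (x : G) (i : ℤ), x ^ p = 1 → (x ^ i) ^ p = 1 := by
    intro x i hx
    rw [← zpow_natCast, ← zpow_mul, mul_comm, zpow_mul, zpow_natCast, hx, one_zpow]
  have hc1 : ∀ z ∈ N, z ^ p = 1 → ∀ g : G, g * z = z * g := fun z hz hzp g =>
    central_of_cyclic_normal hG N hz hzp g
  have hB3 : ∀ n ∈ N, ∀ w : G, w ^ p = 1 → (n * w) ^ p = n ^ p := by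
    intro n hn w hw
    obtain ⟨d, hddef⟩ : ∃ d : G, d = w⁻¹ * n⁻¹ * w⁻¹⁻¹ * n⁻¹⁻¹ := ⟨_, rfl⟩
    have hdN : d ∈ N := by
      rw [hddef]
      exact N.mul_mem (hN.conj_mem _ (N.inv_mem hn) w⁻¹) (N.inv_mem (N.inv_mem hn))
    have hdp : d ^ p = 1 := by
      rw [hddef]
      exact comm_pow_eq_one_of_cyclic hG hp2 N (by rw [inv_pow, hw, inv_one]) (N.inv_mem hn)
    have h1 := mul_pow_of_central_comm n w d (by rw [hddef]; group) (hc1 d hdN hdp) p
    rw [hw, mul_one, Nat.mul_div_assoc p hodd, pow_mul, hdp, one_pow, mul_one] at h1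
    exact h1
  have hQc : ∀ a b : G ⧸ N, a * b = b * a := by
    intro a b
    obtain ⟨c, hc⟩ := IsCyclic.exists_generator (α := G ⧸ N)
    obtain ⟨i, rfl⟩ := Subgroup.mem_zpowers_iff.mp (hc a)
    obtain ⟨j, rfl⟩ := Subgroup.mem_zpowers_iff.mp (hc b)
    exact (((Commute.refl c).zpow_left i).zpow_right j).eq
  have hcommN : ∀ g v : G, g * v * g⁻¹ * v⁻¹ ∈ N := by
    intro g v
    apply (QuotientGroup.eq_one_iff _).mp
    rw [QuotientGroup.mk_mul, QuotientGroup.mk_mul, QuotientGroup.mk_mul, QuotientGroup.mk_inv,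
      QuotientGroup.mk_inv, hQc (g : G ⧸ N) (v : G ⧸ N), mul_inv_cancel_right, mul_inv_cancel]
  have hB1 : ∀ x₀ : G, x₀ ^ p = 1 → x₀ ∉ N → ∀ y : G, y ^ p = 1 →
      ∃ n ∈ N, ∃ j : ℤ, y = n * x₀ ^ j := by
    intro x₀ hx₀ hx₀N y hy
    have h1 : (x₀ : G ⧸ N) ^ p = 1 := by
      rw [← QuotientGroup.mk_pow, hx₀, QuotientGroup.mk_one]
    have h2 : (x₀ : G ⧸ N) ≠ 1 := fun h => hx₀N ((QuotientGroup.eq_one_iff _).mp h)
    have h3 : (y : G ⧸ N) ^ p = 1 := by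
      rw [← QuotientGroup.mk_pow, hy, QuotientGroup.mk_one]
    obtain ⟨k, hk⟩ := cyc_omega_zpow h1 h2 h3
    rw [← QuotientGroup.mk_zpow, QuotientGroup.eq_iff_div_mem] at hk
    exact ⟨y / x₀ ^ k, hk, k, (div_mul_cancel y (x₀ ^ k)).symm⟩
  -- every element of order `p` is `n * x₀ ^ j` with `n` central of order `p`
  have hB1' : ∀ x₀ : G, x₀ ^ p = 1 → x₀ ∉ N → ∀ y : G, y ^ p = 1 →
      ∃ n ∈ N, n ^ p = 1 ∧ ∃ j : ℤ, y = n * x₀ ^ j := by
    intro x₀ hx₀ hx₀N y hy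
    obtain ⟨n, hn, j, hj⟩ := hB1 x₀ hx₀ hx₀N y hy
    refine ⟨n, hn, ?_, j, hj⟩
    rw [← hB3 n hn (x₀ ^ j) (hzpow x₀ j hx₀), ← hj, hy]
  have hcommX : ∀ x y : G, x ^ p = 1 → y ^ p = 1 → x * y = y * x := by
    intro x y hx hy
    by_cases hX : ∀ v : G, v ^ p = 1 → v ∈ N
    · exact hc1 y (hX y hy) hy x
    · push_neg at hX
      obtain ⟨x₀, hx₀, hx₀N⟩ := hX
      obtain ⟨n, hn, hnp, i, rfl⟩ := hB1' x₀ hx₀ hx₀N x hx
      obtain ⟨n', hn', hn'p, j, rfl⟩ := hB1' x₀ hx₀ hx₀N y hy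
      have h1 : Commute n (n' * x₀ ^ j) := (hc1 n hn hnp _).symm
      have h2 : Commute (x₀ ^ i) n' := hc1 n' hn' hn'p _
      have h3 : Commute (x₀ ^ i) (x₀ ^ j) := (Commute.refl x₀).zpow_zpow i j
      exact (h1.mul_left (h2.mul_right h3)).eq
  have hA : ∀ x y : G, x ^ p = 1 → y ^ p = 1 → x * y = y * x ∧ (x * y) ^ p = 1 := by
    intro x y hx hy
    have h1 := hcommX x y hx hy
    refine ⟨h1, ?_⟩
    rw [(show Commute x y from h1).mul_pow, hx, hy, one_mul]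
  refine ⟨hA, ?_⟩
  by_cases hcen : ∀ x : G, x ^ p = 1 → ∀ g : G, g * x = x * g
  · exact Or.inl hcen
  right
  push_neg at hcen
  obtain ⟨x₁, hx₁, g₁, hg₁⟩ := hcen
  have hcp : ∀ g v : G, v ^ p = 1 → (g * v * g⁻¹ * v⁻¹) ^ p = 1 := by
    intro g v hv
    exact (hA (g * v * g⁻¹) v⁻¹ (by rw [conj_pow, hv, mul_one, mul_inv_cancel])
      (by rw [inv_pow, hv, inv_one])).2
  obtain ⟨z, hzdef⟩ : ∃ z : G, z = g₁ * x₁ * g₁⁻¹ * x₁⁻¹ := ⟨_, rfl⟩
  have hzN : z ∈ N := hzdef ▸ hcommN g₁ x₁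
  have hzp : z ^ p = 1 := hzdef ▸ hcp g₁ x₁ hx₁
  have hz1 : z ≠ 1 := by
    intro h
    apply hg₁
    calc g₁ * x₁ = (g₁ * x₁ * g₁⁻¹ * x₁⁻¹) * (x₁ * g₁) := by group
      _ = x₁ * g₁ := by rw [← hzdef, h, one_mul]
  have hN1 : ∀ v ∈ N, v ^ p = 1 → ∃ k : ℤ, v = z ^ k := by
    intro v hv hvp
    have h3 : (⟨z, hzN⟩ : N) ^ p = 1 := Subtype.ext (by rw [Subgroup.coe_pow]; exact hzp)
    have h4 : (⟨z, hzN⟩ : N) ≠ 1 := fun h => hz1 (congrArg Subtype.val h)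
    have h2 : (⟨v, hv⟩ : N) ^ p = 1 := Subtype.ext (by rw [Subgroup.coe_pow]; exact hvp)
    obtain ⟨k, hk⟩ := cyc_omega_zpow h3 h4 h2
    refine ⟨k, ?_⟩
    have h5 := congrArg Subtype.val hk
    rw [Subgroup.coe_zpow] at h5
    exact h5
  refine ⟨z, hz1, hzp, hc1 z hzN hzp, ?_, ?_, ?_⟩
  · intro v hv hvc
    by_cases hvN : v ∈ N
    · exact hN1 v hvN hv
    · exfalso
      obtain ⟨n, hn, hnp, j, hj⟩ := hB1' v hv hvN x₁ hx₁
      apply hg₁
      rw [hj]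
      have h1 : Commute g₁ n := hc1 n hn hnp g₁
      have h2 : Commute g₁ (v ^ j) := (show Commute g₁ v from hvc g₁).zpow_right j
      exact (h1.mul_right h2).eq
  · intro g v hv
    exact hN1 _ (hcommN g v) (hcp g v hv)
  · intro z₁ hz₁ hz₁nc v hv
    have hz₁N : z₁ ∉ N := by
      intro h
      obtain ⟨g, hg⟩ := hz₁nc
      exact hg (hc1 z₁ h hz₁ g)
    obtain ⟨n, hn, hnp, j, hj⟩ := hB1' z₁ hz₁ hz₁N v hv
    obtain ⟨i, hi⟩ := hN1 n hn hnp
    exact ⟨i, j, by rw [hj, hi]⟩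

/-- A finite `p`-group, `p` odd, with an automorphism inverting every element of order `p`
is abelian. -/
theorem comm_of_inverting_aut [Finite G] {p : ℕ} [Fact p.Prime] (hG : IsPGroup p G)
    (hp2 : p ≠ 2) (η : MulAut G) (hη : ∀ x : G, x ^ p = 1 → η x = x⁻¹) (a b : G) :
    a * b = b * a := by
  have hp := (Fact.out : p.Prime)
  have hfix2 : ∀ x ∈ (⊤ : Subgroup G), x ^ p = 1 → (η * η) x = x := by
    intro x _ hx
    rw [MulAut.mul_apply, hη x hx, map_inv, hη x hx, inv_inv]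
  have hW : IsPGroup p (⊤ : Subgroup G) := hG.to_subgroup ⊤
  obtain ⟨k, hk⟩ := exists_pow_fix_of_omega hp2 (η * η) ⊤ hW (fun x _ => Subgroup.mem_top _) hfix2
  obtain ⟨η', hη'def⟩ : ∃ η' : MulAut G, η' = η ^ (p ^ k) := ⟨_, rfl⟩
  have hη'2 : ∀ x : G, η' (η' x) = x := by
    intro x
    have h1 := hk x (Subgroup.mem_top x)
    rw [(Commute.refl η).mul_pow, ← hη'def] at h1
    exact h1
  have hodd : Odd (p ^ k) := (hp.odd_of_ne_two hp2).pow
  have hη'inv : ∀ x : G, x ^ p = 1 → η' x = x⁻¹ := by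
    intro x hx
    obtain ⟨n, hn⟩ := hodd
    have h2 : (η ^ 2) x⁻¹ = x⁻¹ := by
      rw [pow_two, MulAut.mul_apply, map_inv, hη x hx, inv_inv, hη x hx]
    rw [hη'def, hn, pow_succ, pow_mul, MulAut.mul_apply, hη x hx]
    exact pow_fix (η ^ 2) x⁻¹ h2 n
  have hgcd : Nat.gcd 2 p = 1 := (Nat.coprime_primes Nat.prime_two hp).mpr (Ne.symm hp2)
  have hfp : ∀ (m : ℕ) (x : G), η' x = x → x ^ (p ^ m) = 1 → x = 1 := by
    intro m
    induction m with
    | zero =>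
      intro x _ hx
      rwa [pow_zero, pow_one] at hx
    | succ m ih =>
      intro x hx hxm
      have h1 : x ^ p = 1 := by
        apply ih (x ^ p) (by rw [map_pow, hx])
        rw [← pow_mul, ← pow_succ']
        exact hxm
      have h2 : x = x⁻¹ := hx.symm.trans (hη'inv x h1)
      have hsq : x ^ 2 = 1 := by
        have h3 := mul_inv_cancel x
        rw [← h2] at h3
        rw [pow_two]
        exact h3
      have hfin : x ^ Nat.gcd 2 p = 1 := pow_gcd_eq_one.mpr ⟨hsq, h1⟩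
      rwa [hgcd, pow_one] at hfin
  have hfp' : ∀ x : G, η' x = x → x = 1 := by
    intro x hx
    obtain ⟨m, hm⟩ := hG x
    exact hfp m x hx hm
  have hinj : Function.Injective (fun x : G => x⁻¹ * η' x) := by
    intro x y hxy
    have hxy' : x⁻¹ * η' x = y⁻¹ * η' y := hxy
    have h2 : η' x = x * (y⁻¹ * η' y) := by rw [← hxy', mul_inv_cancel_left]
    have h1 : η' (y * x⁻¹) = y * x⁻¹ := by
      rw [map_mul, map_inv, h2]
      group
    have h3 := hfp' _ h1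
    exact (mul_inv_eq_one.mp h3).symm
  have hsurj : Function.Surjective (fun x : G => x⁻¹ * η' x) :=
    Finite.injective_iff_surjective.mp hinj
  have hinvall : ∀ g : G, η' g = g⁻¹ := by
    intro g
    obtain ⟨x, rfl⟩ := hsurj g
    show η' (x⁻¹ * η' x) = (x⁻¹ * η' x)⁻¹
    rw [map_mul, map_inv, hη'2, mul_inv_rev, inv_inv]
  have h1 := hinvall (a * b)
  rw [map_mul, hinvall a, hinvall b, mul_inv_rev] at h1
  have h2 := congrArg (fun t => t⁻¹) h1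
  simp only [mul_inv_rev, inv_inv] at h2
  exact h2.symm

end metacyclic

section braid2

theorem braid_square_inv_comm {V : Type*} [CommGroup V] (t s : MulAut V) (z₀ z₁ : V)
    (ht0 : t z₀ = z₀) (ht1 : t z₁ = z₀ * z₁) (hs1 : s z₁ = z₁) (hs0 : s z₀ = z₁⁻¹ * z₀) :
    ((t * s * t) * (t * s * t)) z₁ = z₁⁻¹ := by
  simp only [MulAut.mul_apply, ht0, hs0, map_mul, map_inv, ht1, hs1]
  apply Additive.ofMul.injective
  simp only [ofMul_mul, ofMul_inv]
  abel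

theorem braid_square_inv {V : Type*} [Group V] (hc : ∀ a b : V, a * b = b * a) (t s : MulAut V)
    (z₀ z₁ : V)
    (ht0 : t z₀ = z₀) (ht1 : t z₁ = z₀ * z₁) (hs1 : s z₁ = z₁) (hs0 : s z₀ = z₁⁻¹ * z₀) :
    ((t * s * t) * (t * s * t)) z₁ = z₁⁻¹ := by
  letI : CommGroup V := { ‹Group V› with mul_comm := hc }
  exact braid_square_inv_comm t s z₀ z₁ ht0 ht1 hs1 hs0

end braid2

end Cfsg.Agent.Lib.Helper26
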