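import Mathlib
import Cfsg.Prelude.Def_OddOrderLocal
import Cfsg.Prelude.Def_CaseTheorems
import Cfsg.Agent.Lib.Helper26.GenExF
import Cfsg.Agent.Lib.Helper8.MetaOdd
import Cfsg.Agent.S3761

/-!
# Metacyclic `2`-groups containing a dihedral or quaternion subgroup of order 8 (helper26)
-/

set_option autoImplicit false

namespace Cfsg.Agent.Lib.Helper26

section meta2

variable {G : Type*} [Group G]

theorem cyc_comm [IsCyclic G] (a b : G) : a * b = b * a := by
  obtain ⟨c, hc⟩ := IsCyclic.exists_generator (α := G)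
  obtain ⟨i, rfl⟩ := Subgroup.mem_zpowers_iff.mp (hc a)
  obtain ⟨j, rfl⟩ := Subgroup.mem_zpowers_iff.mp (hc b)
  rw [← zpow_add, ← zpow_add, add_comm]

theorem cyc_invol [IsCyclic G] {q₀ q : G} (h0 : q₀ ^ 2 = 1) (h01 : q₀ ≠ 1) (hq : q ^ 2 = 1) :
    q = 1 ∨ q = q₀ := by
  haveI : Fact (Nat.Prime 2) := ⟨Nat.prime_two⟩
  obtain ⟨k, hk⟩ := cyc_omega_zpow h0 h01 hq
  rcases Int.even_or_odd' k with ⟨t, rfl | rfl⟩
  · left
    rw [hk, zpow_mul, zpow_ofNat, h0, one_zpow]
  · right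
    rw [hk, zpow_add, zpow_mul, zpow_ofNat, h0, one_zpow, one_mul, zpow_one]

theorem cyc_four [IsCyclic G] {r x : G} (hr4 : r ^ 4 = 1) (hr2 : r ^ 2 ≠ 1) (hx4 : x ^ 4 = 1)
    (hx2 : x ^ 2 ≠ 1) : x = r ∨ x = r⁻¹ := by
  have h1 : (r ^ 2) ^ 2 = 1 := by rw [← pow_mul]; exact hr4
  have h2 : (x ^ 2) ^ 2 = 1 := by rw [← pow_mul]; exact hx4
  rcases cyc_invol h1 hr2 h2 with h | h
  · exact absurd h hx2
  · have h3 : (x * r⁻¹) ^ 2 = 1 := by
      rw [Commute.mul_pow (cyc_comm x r⁻¹), h, inv_pow, mul_inv_cancel]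
    rcases cyc_invol h1 hr2 h3 with h4 | h4
    · left
      exact mul_inv_eq_one.mp h4
    · right
      have h5 : x = r ^ 2 * r := by rw [← h4]; group
      rw [h5]
      apply eq_inv_of_mul_eq_one_left
      rw [← pow_succ, ← pow_succ]
      exact hr4

theorem eq_one_of_pow_odd (hG : IsPGroup 2 G) {x : G} {m : ℕ} (hm : Odd m) (h : x ^ m = 1) :
    x = 1 := by
  obtain ⟨k, hk⟩ := (IsPGroup.iff_orderOf.mp hG) x
  have h1 := orderOf_dvd_of_pow_eq_one h
  rw [hk] at h1
  cases k with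
  | zero => exact orderOf_eq_one_iff.mp (by rw [hk, pow_zero])
  | succ k =>
    exfalso
    have h2 : 2 ∣ m := dvd_trans (dvd_pow_self 2 (Nat.succ_ne_zero k)) h1
    exact (Nat.not_even_iff_odd.mpr hm) (even_iff_two_dvd.mpr h2)

theorem odd_of_conj_eq_pow (hG : IsPGroup 2 G) {a b : G} {k : ℕ} (ha : a ≠ 1)
    (h : b * a * b⁻¹ = a ^ k) : Odd k := by
  by_contra hne
  rw [Nat.not_odd_iff_even] at hne
  obtain ⟨c, hc⟩ := hne
  have ho : orderOf (a ^ k) = orderOf a := by
    rw [← h]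
    exact (MulAut.conj b).orderOf_eq a
  obtain ⟨e, he⟩ := (IsPGroup.iff_orderOf.mp hG) a
  cases e with
  | zero => exact ha (orderOf_eq_one_iff.mp (by rw [he, pow_zero]))
  | succ e =>
    have h1 : (a ^ k) ^ (2 ^ e) = 1 := by
      have e1 : k * 2 ^ e = 2 ^ (e + 1) * c := by rw [hc, pow_succ]; ring
      rw [← pow_mul, e1, pow_mul, ← he, pow_orderOf_eq_one, one_pow]
    have h2 := orderOf_dvd_of_pow_eq_one h1
    rw [ho, he] at h2
    have h3 := Nat.le_of_dvd (by positivity) h2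
    have h4 : 2 ^ e < 2 ^ (e + 1) := Nat.pow_lt_pow_right (by norm_num) (Nat.lt_succ_self e)
    omega

theorem sq_of_cyclic_conj [Finite G] (hG : IsPGroup 2 G) (N : Subgroup G) [hN : N.Normal]
    [IsCyclic N] (b : G) {n : G} (hn : n ∈ N) : ∃ w ∈ N, n⁻¹ * (b * n * b⁻¹) = w ^ 2 := by
  obtain ⟨a, ha⟩ := IsCyclic.exists_monoid_generator (α := N)
  have hgen : ∀ m ∈ N, ∃ j : ℕ, (a : G) ^ j = m := fun m hm => by
    obtain ⟨j, hj⟩ := (Submonoid.mem_powers_iff _ _).mp (ha ⟨m, hm⟩)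
    exact ⟨j, congrArg Subtype.val hj⟩
  obtain ⟨k, hk⟩ := hgen (b * a * b⁻¹) (hN.conj_mem a a.2 b)
  obtain ⟨j, hj⟩ := hgen n hn
  by_cases ha1 : (a : G) = 1
  · refine ⟨1, N.one_mem, ?_⟩
    rw [← hj, ha1]
    simp
  · obtain ⟨c, hc⟩ := odd_of_conj_eq_pow hG ha1 hk.symm
    refine ⟨(a : G) ^ (c * j), N.pow_mem a.2 _, ?_⟩
    have e1 : k * j = j + c * j * 2 := by rw [hc]; ring
    rw [← hj, ← conj_pow, ← hk, ← pow_mul, ← pow_mul, e1, pow_add, inv_mul_cancel_left]

/-- The core case: the element of order four lies in the cyclic normal subgroup. -/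
theorem dqsd_core [Finite G] (hG : IsPGroup 2 G) (N : Subgroup G) [hN : N.Normal]
    [hNc : IsCyclic N] [hQc : IsCyclic (G ⧸ N)] (r u : G) (hrN : r ∈ N) (hr4 : r ^ 4 = 1)
    (hr2 : r ^ 2 ≠ 1) (hur : u * r * u⁻¹ = r⁻¹) (hu : u ^ 2 = 1 ∨ u ^ 2 = r ^ 2) :
    (∃ m : ℕ, Nonempty (G ≃* DihedralGroup m)) ∨ (∃ m : ℕ, Nonempty (G ≃* QuaternionGroup m)) ∨
      Cfsg.IsQuasiDihedral G := by
  haveI : Fact (Nat.Prime 2) := ⟨Nat.prime_two⟩
  have hrr : r⁻¹ ≠ r := by
    intro h
    apply hr2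
    rw [pow_two]
    nth_rewrite 1 [← h]
    exact inv_mul_cancel r
  have hNcomm : ∀ a ∈ N, ∀ b ∈ N, a * b = b * a := by
    intro a ha b hb
    exact congrArg Subtype.val (cyc_comm (⟨a, ha⟩ : N) ⟨b, hb⟩)
  have hzN : r ^ 2 ∈ N := N.pow_mem hrN 2
  have hu2N : u ^ 2 ∈ N := by
    rcases hu with h | h
    · rw [h]; exact N.one_mem
    · rw [h]; exact hzN
  have hconj : ∀ d : G, d * r * d⁻¹ = r ∨ d * r * d⁻¹ = r⁻¹ := by
    intro d
    have h1 : d * r * d⁻¹ ∈ N := hN.conj_mem r hrN d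
    have h2 : (d * r * d⁻¹) ^ 4 = 1 := by rw [conj_pow, hr4]; group
    have h3 : (d * r * d⁻¹) ^ 2 ≠ 1 := by
      rw [conj_pow]
      intro h
      apply hr2
      have e1 : r ^ 2 = d⁻¹ * (d * r ^ 2 * d⁻¹) * d := by group
      rw [e1, h]; group
    have h4 := cyc_four (G := N) (r := ⟨r, hrN⟩) (x := ⟨d * r * d⁻¹, h1⟩)
      (Subtype.ext hr4) (fun h => hr2 (congrArg Subtype.val h)) (Subtype.ext h2)
      (fun h => h3 (congrArg Subtype.val h))
    rcases h4 with h | h
    · left; exact congrArg Subtype.val h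
    · right; exact congrArg Subtype.val h
  have hsq : ∀ d : G, d ^ 2 * r * (d ^ 2)⁻¹ = r := by
    intro d
    have h1 : d ^ 2 * r * (d ^ 2)⁻¹ = d * (d * r * d⁻¹) * d⁻¹ := by
      simp only [pow_two, mul_assoc, mul_inv_rev]
    rw [h1]
    rcases hconj d with h | h
    · rw [h, h]
    · rw [h]
      have h2 : d * r⁻¹ * d⁻¹ = (d * r * d⁻¹)⁻¹ := by group
      rw [h2, h, inv_inv]
  obtain ⟨qb, hqb⟩ := IsCyclic.exists_monoid_generator (α := G ⧸ N)
  obtain ⟨b, rfl⟩ := QuotientGroup.mk_surjective qb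
  obtain ⟨y, hy⟩ := (Submonoid.mem_powers_iff _ _).mp (hqb (u : G ⧸ N))
  have hy' : ((b ^ y : G) : G ⧸ N) = (u : G ⧸ N) := by rw [QuotientGroup.mk_pow]; exact hy
  have hyodd : Odd y := by
    by_contra hne
    rw [Nat.not_odd_iff_even] at hne
    obtain ⟨t, ht⟩ := hne
    have h1 : (b ^ y)⁻¹ * u ∈ N := QuotientGroup.eq.mp hy'
    have h2 : b ^ y = (b ^ t) ^ 2 := by rw [ht, ← pow_mul, mul_two]
    have h3 : u = (b ^ t) ^ 2 * ((b ^ y)⁻¹ * u) := by rw [← h2, mul_inv_cancel_left]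
    have h4 : u * r * u⁻¹ = r := by
      have h5 : u * r * u⁻¹ = (b ^ t) ^ 2 * (((b ^ y)⁻¹ * u) * r * ((b ^ y)⁻¹ * u)⁻¹) *
          ((b ^ t) ^ 2)⁻¹ := by
        rw [← h2]
        simp only [mul_assoc, mul_inv_rev, inv_inv, mul_inv_cancel_left, mul_inv_cancel, mul_one]
      rw [h5, hNcomm _ h1 r hrN, mul_inv_cancel_right, hsq]
    exact hrr (hur.symm.trans h4)
  have hQp : IsPGroup 2 (G ⧸ N) := hG.to_quotient N
  have hb2 : ((b : G) : G ⧸ N) ^ 2 = 1 := by
    obtain ⟨k, hk⟩ := (IsPGroup.iff_orderOf.mp hQp) ((b : G) : G ⧸ N)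
    have h1 : ((b : G) : G ⧸ N) ^ (2 * y) = 1 := by
      rw [mul_comm, pow_mul, hy, ← QuotientGroup.mk_pow]
      exact (QuotientGroup.eq_one_iff _).mpr hu2N
    have h2 : orderOf ((b : G) : G ⧸ N) ∣ 2 * y := orderOf_dvd_of_pow_eq_one h1
    rw [hk] at h2
    have h3 : Nat.Coprime (2 ^ k) y := Nat.Coprime.pow_left k (Nat.coprime_two_left.mpr hyodd)
    have h4 : 2 ^ k ∣ 2 := h3.dvd_of_dvd_mul_right h2
    rw [← hk] at h4
    exact orderOf_dvd_iff_pow_eq_one.mp h4
  have hbu : ((b : G) : G ⧸ N) = (u : G ⧸ N) := by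
    obtain ⟨t, ht⟩ := hyodd
    rw [← hy, ht, pow_succ, pow_mul, hb2, one_pow, one_mul]
  have hindex : ∀ g : G, g ∈ N ∨ u⁻¹ * g ∈ N := by
    intro g
    obtain ⟨s, hs⟩ := (Submonoid.mem_powers_iff _ _).mp (hqb (g : G ⧸ N))
    rw [pow_eq_pow_mod s hb2] at hs
    rcases Nat.mod_two_eq_zero_or_one s with h | h
    · left
      rw [h, pow_zero] at hs
      exact (QuotientGroup.eq_one_iff g).mp hs.symm
    · right
      rw [h, pow_one, hbu] at hs
      exact QuotientGroup.eq.mp hs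
  have hC : Subgroup.centralizer (N : Set G) = N := by
    apply le_antisymm
    · intro g hg
      rcases hindex g with h | h
      · exact h
      · exfalso
        have h1 : g * r = r * g := (Subgroup.mem_centralizer_iff.mp hg r hrN).symm
        have h2 : (u⁻¹ * g) * r = r * (u⁻¹ * g) := hNcomm _ h r hrN
        apply hrr
        rw [← hur]
        have h3 : u⁻¹ * r = r * u⁻¹ := by
          have e1 : u⁻¹ * r * g = r * u⁻¹ * g := by
            rw [mul_assoc, ← h1, ← mul_assoc, h2, mul_assoc]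
          exact mul_right_cancel e1
        rw [mul_assoc, ← h3, ← mul_assoc, mul_inv_cancel, one_mul]
    · intro n hn
      exact Subgroup.mem_centralizer_iff.mpr (fun m hm => hNcomm m hm n hn)
  have hna : ¬ IsMulCommutative G := by
    intro hc
    apply hrr
    have h : u * r = r * u := hc.is_comm.comm u r
    rw [← hur, h, mul_inv_cancel_right]
  obtain ⟨k, hk⟩ := IsPGroup.iff_card.mp (hG.to_subgroup N)
  rcases Cfsg.Agent.S3761.result hG hna N hNc k hk hC with ⟨_, _, h⟩ | ⟨hrel, hEA, hcard, _⟩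
  · exact h
  · exfalso
    have hpcN : Cfsg.powerClosure 2 1 N ≤ N := by
      apply (Subgroup.closure_le _).mpr
      rintro _ ⟨x, hx, rfl⟩
      exact N.pow_mem hx _
    have hNM : N ≤ Subgroup.centralizer (Cfsg.powerClosure 2 1 N : Set G) := by
      intro n hn
      exact Subgroup.mem_centralizer_iff.mpr (fun m hm => hNcomm m (hpcN hm) n hn)
    have huM : u ∈ Subgroup.centralizer (Cfsg.powerClosure 2 1 N : Set G) := by
      by_contra huM
      have hMN : Subgroup.centralizer (Cfsg.powerClosure 2 1 N : Set G) ≤ N := by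
        intro g hg
        rcases hindex g with h | h
        · exact h
        · exfalso
          apply huM
          have e1 : u = g * (u⁻¹ * g)⁻¹ := by group
          rw [e1]
          exact Subgroup.mul_mem _ hg (Subgroup.inv_mem _ (hNM h))
      have h1 := Subgroup.relIndex_eq_one.mpr hMN
      omega
    rcases hu with hu1 | hu2
    · have h1 : u ∈ Cfsg.omegaOne 2 (Subgroup.centralizer (Cfsg.powerClosure 2 1 N : Set G)) :=
        Subgroup.subset_closure ⟨huM, hu1⟩
      have h2 : (r * u) ^ 2 = 1 := by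
        have e1 : (r * u) ^ 2 = r * (u * r * u⁻¹) * u ^ 2 := by simp only [pow_two, mul_assoc, inv_mul_cancel_left]
        rw [e1, hur, mul_inv_cancel, one_mul, hu1]
      have h3 : r * u ∈ Cfsg.omegaOne 2 (Subgroup.centralizer (Cfsg.powerClosure 2 1 N : Set G)) :=
        Subgroup.subset_closure ⟨Subgroup.mul_mem _ (hNM hrN) huM, h2⟩
      have h4 : r ∈ Cfsg.omegaOne 2 (Subgroup.centralizer (Cfsg.powerClosure 2 1 N : Set G)) := by
        have e1 : r = (r * u) * u⁻¹ := by group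
        rw [e1]
        exact Subgroup.mul_mem _ h3 (Subgroup.inv_mem _ h1)
      exact hr2 (hEA.2 r h4)
    · obtain ⟨a, ha⟩ := IsCyclic.exists_monoid_generator (α := N)
      obtain ⟨t, ht⟩ := (Submonoid.mem_powers_iff _ _).mp (ha ⟨r, hrN⟩)
      have ht' : (a : G) ^ t = r := congrArg Subtype.val ht
      rcases Nat.even_or_odd t with ⟨s, hs⟩ | hodd
      · have h1 : r ∈ Cfsg.powerClosure 2 1 N := by
          apply Subgroup.subset_closure
          refine ⟨(a : G) ^ s, N.pow_mem a.2 s, ?_⟩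
          rw [← ht', hs, pow_one, ← pow_mul, mul_two]
        have h2 := Subgroup.mem_centralizer_iff.mp huM r h1
        apply hrr
        rw [← hur, ← h2, mul_inv_cancel_right]
      · have hgen : ∀ n ∈ N, ∃ j : ℕ, n = r ^ j := by
          intro n hn
          have hco : Nat.Coprime t (orderOf a) := by
            obtain ⟨k', hk'⟩ := (IsPGroup.iff_orderOf.mp (hG.to_subgroup N)) a
            rw [hk']
            exact (Nat.Coprime.pow_left k' (Nat.coprime_two_left.mpr hodd)).symm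
          obtain ⟨m, hm⟩ := exists_pow_eq_self_of_coprime hco
          obtain ⟨j, hj⟩ := (Submonoid.mem_powers_iff _ _).mp (ha ⟨n, hn⟩)
          refine ⟨m * j, ?_⟩
          have e1 : (⟨n, hn⟩ : N) = (⟨r, hrN⟩ : N) ^ (m * j) := by
            rw [← hj, pow_mul, ← ht, hm]
          exact congrArg Subtype.val e1
        have hinvN : ∀ n ∈ N, u * n * u⁻¹ = n⁻¹ := by
          intro n hn
          obtain ⟨j, rfl⟩ := hgen n hn
          rw [← conj_pow, hur, inv_pow]
        have hΩ : Cfsg.omegaOne 2 (Subgroup.centralizer (Cfsg.powerClosure 2 1 N : Set G)) ≤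
            Subgroup.zpowers (r ^ 2) := by
          apply (Subgroup.closure_le _).mpr
          rintro x ⟨_, hx2⟩
          rcases hindex x with hxN | hxN
          · have h1 := cyc_invol (G := N) (q₀ := ⟨r ^ 2, hzN⟩) (q := ⟨x, hxN⟩)
              (Subtype.ext (by
                show (r ^ 2) ^ 2 = 1
                rw [← pow_mul]; exact hr4))
              (fun h => hr2 (congrArg Subtype.val h)) (Subtype.ext hx2)
            rcases h1 with h | h
            · have e1 : x = 1 := congrArg Subtype.val h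
              rw [e1]
              exact Subgroup.one_mem _
            · have e1 : x = r ^ 2 := congrArg Subtype.val h
              rw [e1]
              exact Subgroup.mem_zpowers _
          · exfalso
            have h1 : x ^ 2 = (u * (u⁻¹ * x) * u⁻¹) * u ^ 2 * (u⁻¹ * x) := by
              simp only [pow_two, mul_assoc, mul_inv_cancel_left, inv_mul_cancel_left]
            rw [hinvN _ hxN, hu2, mul_assoc, hNcomm (r ^ 2) hzN _ hxN, ← mul_assoc,
              inv_mul_cancel, one_mul] at h1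
            exact hr2 (h1.symm.trans hx2)
        have h1 := Subgroup.card_le_of_le hΩ
        rw [hcard, Nat.card_zpowers] at h1
        have h2 : orderOf (r ^ 2) ≤ 2 :=
          orderOf_le_of_pow_eq_one (by norm_num) (by rw [← pow_mul]; exact hr4)
        omega

theorem dqsd_of_inverting [Finite G] (hG : IsPGroup 2 G) (hm : Cfsg.IsMetacyclic G)
    (r u : G) (hr4 : r ^ 4 = 1) (hr2 : r ^ 2 ≠ 1) (hur : u * r * u⁻¹ = r⁻¹)
    (hu : u ^ 2 = 1 ∨ u ^ 2 = r ^ 2) :
    (∃ m : ℕ, Nonempty (G ≃* DihedralGroup m)) ∨ (∃ m : ℕ, Nonempty (G ≃* QuaternionGroup m)) ∨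
      Cfsg.IsQuasiDihedral G := by
  haveI : Fact (Nat.Prime 2) := ⟨Nat.prime_two⟩
  obtain ⟨N, hN, hNc, hQc⟩ := hm
  haveI := hN
  haveI := hNc
  haveI := hQc
  have hrr : r⁻¹ ≠ r := by
    intro h
    apply hr2
    rw [pow_two]
    nth_rewrite 1 [← h]
    exact inv_mul_cancel r
  have hzN : r ^ 2 ∈ N := by
    have h1 : ((u * r * u⁻¹ * r⁻¹ : G) : G ⧸ N) = 1 := by
      have hc := cyc_comm ((u : G) : G ⧸ N) ((r : G) : G ⧸ N)
      rw [QuotientGroup.mk_mul, QuotientGroup.mk_mul, QuotientGroup.mk_mul, QuotientGroup.mk_inv,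
        QuotientGroup.mk_inv, hc, mul_inv_cancel_right, mul_inv_cancel]
    have h2 : u * r * u⁻¹ * r⁻¹ ∈ N := (QuotientGroup.eq_one_iff _).mp h1
    rw [hur] at h2
    have h3 : r ^ 2 = (r⁻¹ * r⁻¹)⁻¹ := by simp only [pow_two, mul_inv_rev, inv_inv]
    rw [h3]
    exact N.inv_mem h2
  have hquot : ∀ x y : G, x ^ 2 ∈ N → y ^ 2 ∈ N → x ∈ N ∨ y ∈ N ∨ x * y ∈ N := by
    intro x y hx hy
    by_cases hxN : x ∈ N
    · exact Or.inl hxN
    by_cases hyN : y ∈ N
    · exact Or.inr (Or.inl hyN)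
    right; right
    have hx1 : ((x : G) : G ⧸ N) ^ 2 = 1 := by
      rw [← QuotientGroup.mk_pow]; exact (QuotientGroup.eq_one_iff _).mpr hx
    have hy1 : ((y : G) : G ⧸ N) ^ 2 = 1 := by
      rw [← QuotientGroup.mk_pow]; exact (QuotientGroup.eq_one_iff _).mpr hy
    have hx0 : ((x : G) : G ⧸ N) ≠ 1 := fun h => hxN ((QuotientGroup.eq_one_iff _).mp h)
    rcases cyc_invol hx1 hx0 hy1 with h | h
    · exact absurd ((QuotientGroup.eq_one_iff _).mp h) hyN
    · apply (QuotientGroup.eq_one_iff _).mp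
      rw [QuotientGroup.mk_mul, h, ← pow_two, hx1]
  rcases hu with hu1 | hu2
  · have hrN : r ∈ N := by
      rcases hquot r u hzN (by rw [hu1]; exact N.one_mem) with h | h | h
      · exact h
      · exfalso
        have hc := central_of_cyclic_normal hG N h hu1 r
        apply hrr
        rw [← hur, ← hc, mul_inv_cancel_right]
      · exfalso
        have h2 : (r * u) ^ 2 = 1 := by
          have e1 : (r * u) ^ 2 = r * (u * r * u⁻¹) * u ^ 2 := by simp only [pow_two, mul_assoc, inv_mul_cancel_left]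
          rw [e1, hur, mul_inv_cancel, one_mul, hu1]
        have hc := central_of_cyclic_normal hG N h h2 u
        apply hrr
        rw [← hur]
        have h3 : u * r = r * u := by
          have e1 : u * r * u = r * u * u := by rw [mul_assoc, hc]
          exact mul_right_cancel e1
        rw [h3, mul_inv_cancel_right]
    exact dqsd_core hG N r u hrN hr4 hr2 hur (Or.inl hu1)
  · have hu4 : u ^ 4 = 1 := by
      have e1 : u ^ 4 = (u ^ 2) ^ 2 := by rw [← pow_mul]
      rw [e1, hu2, ← pow_mul]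
      exact hr4
    have hu2ne : u ^ 2 ≠ 1 := by rw [hu2]; exact hr2
    have hru : r * u * r⁻¹ = u⁻¹ := by
      apply eq_inv_of_mul_eq_one_left
      have e1 : r * u * r⁻¹ * u = r * (u * r * u⁻¹)⁻¹ * u ^ 2 := by
        simp only [pow_two, mul_assoc, mul_inv_rev, inv_inv, inv_mul_cancel_left]
      have e2 : r * r * r ^ 2 = r ^ 4 := by simp only [pow_succ, pow_zero, one_mul, mul_assoc]
      rw [e1, hur, inv_inv, hu2, e2, hr4]
    rcases hquot r u hzN (hu2 ▸ hzN) with h | h | h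
    · exact dqsd_core hG N r u h hr4 hr2 hur (Or.inr hu2)
    · exact dqsd_core hG N u r h hu4 hu2ne hru (Or.inr hu2.symm)
    · have hsq' : (r * u) ^ 2 = u ^ 2 := by
        have e1 : (r * u) ^ 2 = r * (u * r * u⁻¹) * u ^ 2 := by simp only [pow_two, mul_assoc, inv_mul_cancel_left]
        rw [e1, hur, mul_inv_cancel, one_mul]
      have h4' : (r * u) ^ 4 = 1 := by
        have e1 : (r * u) ^ 4 = ((r * u) ^ 2) ^ 2 := by rw [← pow_mul]
        rw [e1, hsq', ← pow_mul]
        exact hu4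
      have hinv' : u * (r * u) * u⁻¹ = (r * u)⁻¹ := by
        apply eq_inv_of_mul_eq_one_left
        have e1 : u * (r * u) * u⁻¹ * (r * u) = u * r ^ 2 * u := by simp only [pow_two, mul_assoc, mul_inv_cancel_left]
        have e2 : u * u ^ 2 * u = u ^ 4 := by simp only [pow_succ, pow_zero, one_mul, mul_assoc]
        rw [e1, ← hu2, e2, hu4]
      exact dqsd_core hG N (r * u) u h h4' (by rw [hsq']; exact hu2ne) hinv'
        (Or.inr hsq'.symm)

theorem dqsd_of_hom [Finite G] (hG : IsPGroup 2 G) (hm : Cfsg.IsMetacyclic G) {H : Type*}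
    [Group H] (f : H →* G) (hf : Function.Injective f) (r u : H) (hr4 : r ^ 4 = 1)
    (hr2 : r ^ 2 ≠ 1) (hur : u * r * u⁻¹ = r⁻¹) (hu : u ^ 2 = 1 ∨ u ^ 2 = r ^ 2) :
    (∃ m : ℕ, Nonempty (G ≃* DihedralGroup m)) ∨ (∃ m : ℕ, Nonempty (G ≃* QuaternionGroup m)) ∨
      Cfsg.IsQuasiDihedral G := by
  refine dqsd_of_inverting hG hm (f r) (f u) (by rw [← map_pow, hr4, map_one])
    (fun hh => hr2 (hf (by rw [map_pow, hh, map_one]))) ?_ ?_
  · have h := congrArg f hur
    simpa only [map_mul, map_inv] using h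
  · rcases hu with h | h
    · left; rw [← map_pow, h, map_one]
    · right; rw [← map_pow, h, map_pow]

end meta2

end Cfsg.Agent.Lib.Helper26
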