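import Mathlib
import Cfsg.Prelude.Def_FusionSystem
import Cfsg.Agent.Lib.Helper26.FusStab
import Cfsg.Agent.Lib.Helper26.FusOmega

/-!
# Stabilisers of power chains in a strongly closed subgroup (helper26)
-/

set_option autoImplicit false

namespace Cfsg.Agent.Lib.Helper26

open Cfsg Cfsg.FusionSystem

universe u

section powfus

open scoped Pointwise

variable {Ω : Type u} [Group Ω] {S : Subgroup Ω}

/-- The restriction of an automorphism of `R` to `Q ⊓ R`. -/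
def restrInf (Q R : Subgroup Ω) (β : MulAut R) (h1 : ∀ x : R, (x : Ω) ∈ Q → ((β x : R) : Ω) ∈ Q)
    (h2 : ∀ x : R, (x : Ω) ∈ Q → ((β⁻¹ x : R) : Ω) ∈ Q) : MulAut ↥(Q ⊓ R) where
  toFun := fun x => ⟨β ⟨x, x.2.2⟩, ⟨h1 _ x.2.1, (β _).2⟩⟩
  invFun := fun x => ⟨β⁻¹ ⟨x, x.2.2⟩, ⟨h2 _ x.2.1, (β⁻¹ _).2⟩⟩
  left_inv := fun x => by
    apply Subtype.ext
    simp
  right_inv := fun x => by
    apply Subtype.ext
    simp
  map_mul' := fun x y => by
    apply Subtype.ext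
    have h : (⟨((x * y : ↥(Q ⊓ R)) : Ω), (x * y).2.2⟩ : R) = ⟨x, x.2.2⟩ * ⟨y, y.2.2⟩ := rfl
    show ((β ⟨((x * y : ↥(Q ⊓ R)) : Ω), (x * y).2.2⟩ : R) : Ω) = _
    rw [h, map_mul]
    rfl

theorem restrInf_pow (Q R : Subgroup Ω) (β : MulAut R)
    (h1 : ∀ x : R, (x : Ω) ∈ Q → ((β x : R) : Ω) ∈ Q)
    (h2 : ∀ x : R, (x : Ω) ∈ Q → ((β⁻¹ x : R) : Ω) ∈ Q) (k : ℕ) (x : ↥(Q ⊓ R)) :
    ((((restrInf Q R β h1 h2) ^ k) x : ↥(Q ⊓ R)) : Ω) = (((β ^ k) ⟨x, x.2.2⟩ : R) : Ω) := by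
  induction k generalizing x with
  | zero => simp
  | succ k ih =>
    rw [pow_succ', pow_succ', MulAut.mul_apply, MulAut.mul_apply]
    show ((β ⟨(((restrInf Q R β h1 h2) ^ k) x : ↥(Q ⊓ R)), _⟩ : R) : Ω) = _
    congr 2
    exact Subtype.ext (ih x)

theorem le_of_aut_isPGroup [Finite S] {p : ℕ} [Fact p.Prime] (hS : IsPGroup p S)
    (F : FusionSystem S) {R Q : Subgroup Ω} (hc : F.IsCentric R) (hr : F.IsRadical p R)
    (hQ : F.StronglyClosed Q) (hA : IsPGroup p (MulAut ↥(Q ⊓ R))) : Q ≤ R := by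
  have hR : R ≤ S := hc.1
  refine le_of_chain hS F hc hr hQ (F.autGroup R) le_rfl
    (fun α hα β hβ => mul_mem (mul_mem hα hβ) (inv_mem hα)) (fun _ => Q) 0 rfl ?_ ?_ ?_ ?_
  · intro i _ α hα x hx
    exact stronglyClosed_aut_invariant F hQ hR hα x hx
  · intro i hi
    exact absurd hi (Nat.not_lt_zero _)
  · intro β hβ
    have h1 : ∀ x : R, (x : Ω) ∈ Q → ((β x : R) : Ω) ∈ Q := fun x hx =>
      stronglyClosed_aut_invariant F hQ hR hβ x hx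
    have h2 : ∀ x : R, (x : Ω) ∈ Q → ((β⁻¹ x : R) : Ω) ∈ Q := fun x hx =>
      stronglyClosed_aut_invariant F hQ hR (inv_mem hβ) x hx
    obtain ⟨k, hk⟩ := hA (restrInf Q R β h1 h2)
    refine ⟨k, fun x hx => ?_⟩
    have h3 := restrInf_pow Q R β h1 h2 (p ^ k) ⟨x, ⟨hx, x.2⟩⟩
    rw [hk] at h3
    exact Subtype.ext h3.symm
  · intro g hg hgQ
    exact autInducedBy_le_autGroup F hR (conj_mem_autInducedBy (hQ.1 hgQ) hg)

theorem mem_of_centric_radical_of_stab [Finite S] {p : ℕ} [Fact p.Prime]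
    (F : FusionSystem S) {P : Subgroup Ω} (hc : F.IsCentric P) (hr : F.IsRadical p P)
    (B : Subgroup (MulAut P)) (hBA : B ≤ F.autGroup P) (hBp : IsPGroup p B)
    (hBn : ∀ α ∈ F.autGroup P, ∀ β ∈ B, α * β * α⁻¹ ∈ B)
    (g : Ω) (hg : g ∈ Subgroup.normalizer (P : Set Ω)) (hgS : g ∈ S)
    (hB : P.normalizerMonoidHom ⟨g, hg⟩ ∈ B) : g ∈ P := by
  have hP : P ≤ S := hc.1
  have hC : centralizerIn S P ≤ P := hc.2 P (isConj_refl F hP)
  have hnorm : (B.subgroupOf (F.autGroup P)).Normal := by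
    constructor
    intro b hb a
    rw [Subgroup.mem_subgroupOf] at hb ⊢
    exact hBn a a.2 b hb
  have hp : IsPGroup p (B.subgroupOf (F.autGroup P)) := hBp.comap_subtype
  have hle := Lead.Cores.le_pCore hnorm hp
  have hInn : B ≤ Inn P := by
    intro β hβ
    rw [← hr.2]
    exact ⟨⟨β, hBA hβ⟩, hle (Subgroup.mem_subgroupOf.mpr hβ), rfl⟩
  by_contra hgP
  exact not_mem_inn_of_centralizerIn_le hP hC hgS hgP
    (fun x => normalizerMonoidHom_coe ⟨g, hg⟩ x) (hInn hB)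

/-- The set of `k`-th powers of an abelian subgroup, as a subgroup. -/
def powSub (H : Subgroup Ω) (hH : ∀ x ∈ H, ∀ y ∈ H, x * y = y * x) (k : ℕ) : Subgroup Ω where
  carrier := {x | ∃ y ∈ H, y ^ k = x}
  mul_mem' := by
    rintro _ _ ⟨a, ha, rfl⟩ ⟨b, hb, rfl⟩
    exact ⟨a * b, H.mul_mem ha hb, Commute.mul_pow (hH a ha b hb) k⟩
  one_mem' := ⟨1, H.one_mem, one_pow k⟩
  inv_mem' := by
    rintro _ ⟨a, ha, rfl⟩
    exact ⟨a⁻¹, H.inv_mem ha, inv_pow a k⟩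

theorem mem_powSub_iff {H : Subgroup Ω} {hH : ∀ x ∈ H, ∀ y ∈ H, x * y = y * x} {k : ℕ} {x : Ω} :
    x ∈ powSub H hH k ↔ ∃ y ∈ H, y ^ k = x := Iff.rfl

/-- The chain `Q ≥ ℧¹(Q ⊓ R) ≥ ℧²(Q ⊓ R) ≥ …`. -/
def powChain (Q R : Subgroup Ω) (hab : ∀ x ∈ Q ⊓ R, ∀ y ∈ Q ⊓ R, x * y = y * x) (p : ℕ) :
    ℕ → Subgroup Ω
  | 0 => Q
  | (j + 1) => powSub (Q ⊓ R) hab (p ^ (j + 1))

theorem mem_of_homocyclic_stab [Finite S] {p : ℕ} [Fact p.Prime] (hS : IsPGroup p S)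
    (F : FusionSystem S) {R Q : Subgroup Ω} (hc : F.IsCentric R) (hr : F.IsRadical p R)
    (hQ : F.StronglyClosed Q)
    (hab : ∀ x ∈ Q ⊓ R, ∀ y ∈ Q ⊓ R, x * y = y * x) (n : ℕ)
    (hexp : ∀ x ∈ Q ⊓ R, x ^ (p ^ n) = 1)
    (g : Ω) (hgN : g ∈ Subgroup.normalizer (R : Set Ω)) (hgQ : g ∈ Q)
    (hg : ∀ x ∈ Q ⊓ R, ∃ w ∈ Q ⊓ R, x⁻¹ * (g * x * g⁻¹) = w ^ p) : g ∈ R := by
  have hR : R ≤ S := hc.1
  have hfinR : Finite R := finite_of_le hR
  have hQn := stronglyClosed_le_normalizer F hQ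
  have hinvA : ∀ α ∈ F.autGroup R, ∀ i ≤ n + 1, ∀ x ∈ chainOn R (powChain Q R hab p) i,
      α x ∈ chainOn R (powChain Q R hab p) i := by
    intro α hα i _ x hx
    match i, hx with
    | 0, _ => exact Subgroup.mem_top _
    | 1, hx =>
      exact Subgroup.mem_subgroupOf.mpr
        (stronglyClosed_aut_invariant F hQ hR hα x (Subgroup.mem_subgroupOf.mp hx))
    | (j + 2), hx =>
      have hx' : (x : Ω) ∈ powSub (Q ⊓ R) hab (p ^ (j + 1)) := Subgroup.mem_subgroupOf.mp hx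
      obtain ⟨y, hy, hyx⟩ := hx'
      have hx2 : x = (⟨y, hy.2⟩ : R) ^ (p ^ (j + 1)) := Subtype.ext (by
        rw [Subgroup.coe_pow]
        exact hyx.symm)
      apply Subgroup.mem_subgroupOf.mpr
      refine (mem_powSub_iff (hH := hab)).mpr ⟨((α ⟨y, hy.2⟩ : R) : Ω),
        ⟨stronglyClosed_aut_invariant F hQ hR hα ⟨y, hy.2⟩ hy.1, (α _).2⟩, ?_⟩
      rw [hx2, map_pow, Subgroup.coe_pow]
  have hcg : R.normalizerMonoidHom ⟨g, hgN⟩ ∈ F.autGroup R :=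
    autInducedBy_le_autGroup F hR (conj_mem_autInducedBy (hQ.1 hgQ) hgN)
  refine mem_of_centric_radical_of_stab F hc hr
    (chainStab (F.autGroup R) (chainOn R (powChain Q R hab p)) (n + 1) hinvA)
    (fun β hβ => hβ.1) ?_ ?_ g hgN (hQ.1 hgQ) ?_
  · apply chainStab_isPGroup (hS.to_le hR) rfl
    intro β _
    refine ⟨0, fun x hx => ?_⟩
    have hx1 : x = 1 := by
      apply Subtype.ext
      rw [Subgroup.coe_one]
      cases n with
      | zero =>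
        have h1 : (x : Ω) ∈ Q := Subgroup.mem_subgroupOf.mp hx
        have h2 := hexp x ⟨h1, x.2⟩
        simpa using h2
      | succ j =>
        have hx' : (x : Ω) ∈ powSub (Q ⊓ R) hab (p ^ (j + 1)) := Subgroup.mem_subgroupOf.mp hx
        obtain ⟨y, hy, hyx⟩ := hx'
        rw [← hyx]
        exact hexp y hy
    rw [hx1, map_one]
  · intro α hα β hβ
    exact chainStab_conj (fun γ hγ => mul_mem (mul_mem hα hγ) (inv_mem hα))
      (hinvA α hα) (hinvA α⁻¹ (inv_mem hα)) hβ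
  · refine ⟨hcg, fun i hi x hx => ?_⟩
    have h3 : ((x⁻¹ * R.normalizerMonoidHom ⟨g, hgN⟩ x : R) : Ω) =
        (x : Ω)⁻¹ * (g * x * g⁻¹) := by
      rw [Subgroup.coe_mul, Subgroup.coe_inv, normalizerMonoidHom_coe]
    match i, hx with
    | 0, _ =>
      apply Subgroup.mem_subgroupOf.mpr
      show _ ∈ Q
      have h1 : (x : Ω)⁻¹ ∈ Subgroup.normalizer (Q : Set Ω) := hQn (S.inv_mem (hR x.2))
      have h2 := (Subgroup.mem_normalizer_iff.mp h1 g).mp hgQ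
      rw [inv_inv] at h2
      have h4 : (x : Ω)⁻¹ * (g * x * g⁻¹) = (x : Ω)⁻¹ * g * x * g⁻¹ := by group
      rw [h3, h4]
      exact Q.mul_mem h2 (Q.inv_mem hgQ)
    | 1, hx =>
      apply Subgroup.mem_subgroupOf.mpr
      have hxQ : (x : Ω) ∈ Q := Subgroup.mem_subgroupOf.mp hx
      obtain ⟨w, hw, hw'⟩ := hg x ⟨hxQ, x.2⟩
      rw [h3]
      exact (mem_powSub_iff (hH := hab)).mpr ⟨w, hw,
        (congrArg (fun k => w ^ k) (by simp : p ^ (0 + 1) = p)).trans hw'.symm⟩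
    | (j + 2), hx =>
      apply Subgroup.mem_subgroupOf.mpr
      have hx' : (x : Ω) ∈ powSub (Q ⊓ R) hab (p ^ (j + 1)) := Subgroup.mem_subgroupOf.mp hx
      obtain ⟨y, hy, hyx⟩ := hx'
      obtain ⟨w, hw, hw'⟩ := hg y hy
      have hwp : w ^ p ∈ Q ⊓ R := Subgroup.pow_mem _ hw p
      have h5 : g * y * g⁻¹ = y * w ^ p := by
        rw [← hw']
        group
      rw [h3]
      refine (mem_powSub_iff (hH := hab)).mpr ⟨w, hw, ?_⟩
      rw [← hyx]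
      have h6 : g * y ^ (p ^ (j + 1)) * g⁻¹ = (g * y * g⁻¹) ^ (p ^ (j + 1)) :=
        (conj_pow (a := g) (b := y) (i := p ^ (j + 1))).symm
      rw [h6, h5, Commute.mul_pow (hab y hy _ hwp), ← mul_assoc, inv_mul_cancel, one_mul,
        ← pow_mul, ← pow_succ']

theorem exists_normalizer_not_mem [Finite S] {p : ℕ} [Fact p.Prime] (hS : IsPGroup p S)
    {R Q : Subgroup Ω} (hR : R ≤ S) (hQS : Q ≤ S)
    (hQn : S ≤ Subgroup.normalizer (Q : Set Ω)) (hQR : ¬ Q ≤ R) :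
    ∃ q ∈ Q, q ∈ Subgroup.normalizer (R : Set Ω) ∧ q ∉ R := by
  have hPQ : R ⊔ Q ≤ S := sup_le hR hQS
  have hfin : Finite ↥(R ⊔ Q) := finite_of_le hPQ
  have hlt : R < R ⊔ Q := lt_of_le_of_ne le_sup_left (fun h => hQR (h ▸ le_sup_right))
  obtain ⟨g, hgN, hgP⟩ := SetLike.exists_of_lt (lt_normalizerIn (hS.to_le hPQ) hlt)
  have hg := mem_normalizerIn_iff.mp hgN
  have hmul : ((R ⊔ Q : Subgroup Ω) : Set Ω) = (R : Set Ω) * (Q : Set Ω) :=
    Subgroup.coe_mul_of_left_le_normalizer_right R Q (le_trans hR hQn)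
  have hg' : g ∈ (R : Set Ω) * (Q : Set Ω) := hmul ▸ hg.1
  obtain ⟨u, hu, q, hq, rfl⟩ := Set.mem_mul.mp hg'
  have hqN : q ∈ Subgroup.normalizer (R : Set Ω) := by
    have h1 : q = u⁻¹ * (u * q) := by group
    rw [h1]
    exact Subgroup.mul_mem _ (Subgroup.inv_mem _ (Subgroup.le_normalizer hu)) hg.2
  exact ⟨q, hq, hqN, fun h => hgP (R.mul_mem hu h)⟩

end powfus

end Cfsg.Agent.Lib.Helper26
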