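import Mathlib
import Cfsg.Agent.Lib.Helper26.GenExH

/-!
# Homocyclic normal subgroups of metacyclic `2`-groups (helper26)
-/

set_option autoImplicit false

namespace Cfsg.Agent.Lib.Helper26

section homoc

theorem isMetacyclic_of_mulEquiv {X Y : Type*} [Group X] [Group Y] (e : X ≃* Y)
    (hm : Cfsg.IsMetacyclic X) : Cfsg.IsMetacyclic Y := by
  obtain ⟨N, hN, hNc, hQc⟩ := hm
  haveI := hN
  haveI := hNc
  haveI := hQc
  have hN' : (N.map e.toMonoidHom).Normal := Subgroup.Normal.map hN e.toMonoidHom e.surjective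
  refine ⟨N.map e.toMonoidHom, hN', ?_, ?_⟩
  · exact isCyclic_of_surjective (e.toMonoidHom.subgroupMap N)
      (e.toMonoidHom.subgroupMap_surjective N)
  · exact isCyclic_of_surjective (QuotientGroup.congr N (N.map e.toMonoidHom) e rfl)
      (QuotientGroup.congr N (N.map e.toMonoidHom) e rfl).surjective

theorem isMetacyclic_of_le {Ω : Type*} [Group Ω] {H K : Subgroup Ω} (h : H ≤ K)
    (hm : Cfsg.IsMetacyclic ↥K) : Cfsg.IsMetacyclic ↥H :=
  isMetacyclic_of_mulEquiv (Subgroup.subgroupOfEquivOfLe h)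
    (Cfsg.Agent.Lib.Helper8.MetaOdd.metacyclic_subgroup hm (H.subgroupOf K))

theorem homocyclic_facts {X : Type*} [Group X] (n : ℕ)
    (e : X ≃* Multiplicative (ZMod (2 ^ n)) × Multiplicative (ZMod (2 ^ n))) :
    (∀ x y : X, x * y = y * x) ∧ (∀ x : X, x ^ (2 ^ n) = 1) ∧
    (∀ z : X, z ^ 2 = 1 → (∃ w : X, z = w ^ 2) ∨ ∀ x : X, x ^ 2 = 1) := by
  haveI : NeZero (2 ^ n) := ⟨by positivity⟩
  have hexpM : ∀ c : Multiplicative (ZMod (2 ^ n)), c ^ (2 ^ n) = 1 := by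
    intro c
    apply Multiplicative.toAdd.injective
    rw [toAdd_pow, toAdd_one, nsmul_eq_mul]
    have h1 : ((2 ^ n : ℕ) : ZMod (2 ^ n)) = 0 := ZMod.natCast_self _
    rw [h1, zero_mul]
  have hexpX : ∀ x : X, x ^ (2 ^ n) = 1 := by
    intro x
    apply e.injective
    rw [map_pow, map_one]
    exact Prod.ext (hexpM _) (hexpM _)
  refine ⟨fun x y => e.injective (by rw [map_mul, map_mul, mul_comm]), hexpX, fun z hz => ?_⟩
  by_cases hn : 2 ≤ n
  · left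
    have hsqM : ∀ c : Multiplicative (ZMod (2 ^ n)), c ^ 2 = 1 →
        ∃ w : Multiplicative (ZMod (2 ^ n)), c = w ^ 2 := by
      intro c hc
      have h1 : (2 : ℕ) • (Multiplicative.toAdd c) = 0 := by
        rw [← toAdd_pow, hc]
        rfl
      have h2 : ((2 * (Multiplicative.toAdd c).val : ℕ) : ZMod (2 ^ n)) = 0 := by
        rw [Nat.cast_mul, ZMod.natCast_zmod_val]
        rw [nsmul_eq_mul] at h1
        exact h1
      have h3 : 2 ^ n ∣ 2 * (Multiplicative.toAdd c).val := (ZMod.natCast_eq_zero_iff _ _).mp h2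
      obtain ⟨m, hm⟩ : ∃ m, n = m + 2 := ⟨n - 2, by omega⟩
      have h4 : 2 ^ (m + 1) ∣ (Multiplicative.toAdd c).val := by
        have e1 : 2 ^ n = 2 * 2 ^ (m + 1) := by rw [hm]; ring
        exact Nat.dvd_of_mul_dvd_mul_left (by norm_num) ((dvd_of_eq e1.symm).trans h3)
      obtain ⟨t, ht⟩ := h4
      refine ⟨Multiplicative.ofAdd (((2 ^ m * t : ℕ)) : ZMod (2 ^ n)), ?_⟩
      apply Multiplicative.toAdd.injective
      rw [toAdd_pow, toAdd_ofAdd, nsmul_eq_mul, ← ZMod.natCast_zmod_val (Multiplicative.toAdd c),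
        ht]
      push_cast
      ring
    have hez : (e z) ^ 2 = 1 := by rw [← map_pow, hz, map_one]
    obtain ⟨w1, hw1⟩ := hsqM (e z).1 (congrArg Prod.fst hez)
    obtain ⟨w2, hw2⟩ := hsqM (e z).2 (congrArg Prod.snd hez)
    refine ⟨e.symm (w1, w2), e.injective ?_⟩
    rw [map_pow, MulEquiv.apply_symm_apply]
    exact Prod.ext hw1 hw2
  · right
    intro x
    have hdvd : 2 ^ n ∣ 2 ^ 1 := pow_dvd_pow 2 (by omega)
    rw [pow_one] at hdvd
    obtain ⟨s, hs⟩ := hdvd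
    rw [hs, pow_mul, hexpX, one_pow]

theorem exists_d8_of_stab {T : Type*} [Group T] [Finite T] (hT : IsPGroup 2 T)
    (hm : Cfsg.IsMetacyclic T) (A : Subgroup T) [hA : A.Normal]
    (hab : ∀ x ∈ A, ∀ y ∈ A, x * y = y * x)
    (hsq : ∀ z ∈ A, z ^ 2 = 1 → (∃ w ∈ A, z = w ^ 2) ∨ ∀ x ∈ A, x ^ 2 = 1)
    (g : T) (hg : g ∉ A)
    (hstab : ∀ h : T, (∀ x ∈ A, ∃ w ∈ A, x⁻¹ * (h * x * h⁻¹) = w ^ 2) → h ∈ A) :
    ∃ r u : T, r ^ 4 = 1 ∧ r ^ 2 ≠ 1 ∧ u ^ 2 = 1 ∧ u * r * u⁻¹ = r⁻¹ := by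
  obtain ⟨N, hN, hNc, hQc⟩ := hm
  haveI := hN
  haveI := hNc
  haveI := hQc
  by_cases hNA : N ≤ A
  · exfalso
    obtain ⟨qb, hqb⟩ := IsCyclic.exists_monoid_generator (α := T ⧸ N)
    obtain ⟨b, rfl⟩ := QuotientGroup.mk_surjective qb
    have hdec : ∀ x : T, ∃ s : ℕ, (b ^ s)⁻¹ * x ∈ N := by
      intro x
      obtain ⟨s, hs⟩ := (Submonoid.mem_powers_iff _ _).mp (hqb (x : T ⧸ N))
      refine ⟨s, QuotientGroup.eq.mp ?_⟩
      rw [QuotientGroup.mk_pow]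
      exact hs
    have hbA : b ∈ A := by
      apply hstab
      intro x _
      obtain ⟨s, hs⟩ := hdec x
      obtain ⟨w, hw, hw'⟩ := sq_of_cyclic_conj hT N b hs
      refine ⟨w, hNA hw, ?_⟩
      have hB : b ^ s * b = b * b ^ s := pow_mul_comm' b s
      have e1 : ((b ^ s)⁻¹ * x)⁻¹ * (b * ((b ^ s)⁻¹ * x) * b⁻¹) =
          x⁻¹ * (b ^ s * b * (b ^ s)⁻¹) * x * b⁻¹ := by
        simp only [mul_assoc, mul_inv_rev, inv_inv]
      rw [← hw', e1, hB, mul_inv_cancel_right]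
      simp only [mul_assoc]
    obtain ⟨s, hs⟩ := hdec g
    apply hg
    have e1 : g = b ^ s * ((b ^ s)⁻¹ * g) := (mul_inv_cancel_left _ _).symm
    rw [e1]
    exact A.mul_mem (A.pow_mem hbA s) (hNA hs)
  · obtain ⟨a, ha⟩ := IsCyclic.exists_monoid_generator (α := N)
    have hgen : ∀ m ∈ N, ∃ j : ℕ, (a : T) ^ j = m := fun m hm => by
      obtain ⟨j, hj⟩ := (Submonoid.mem_powers_iff _ _).mp (ha ⟨m, hm⟩)
      exact ⟨j, congrArg Subtype.val hj⟩
    have haA : (a : T) ∉ A := by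
      intro h
      apply hNA
      intro m hm
      obtain ⟨j, rfl⟩ := hgen m hm
      exact A.pow_mem h j
    have ha1 : (a : T) ≠ 1 := fun h => haA (h ▸ A.one_mem)
    have hex : ∃ i : ℕ, (a : T) ^ (2 ^ i) ∈ A := by
      obtain ⟨e, he⟩ := (IsPGroup.iff_orderOf.mp hT) (a : T)
      exact ⟨e, by rw [← he, pow_orderOf_eq_one]; exact A.one_mem⟩
    classical
    have hi0 : Nat.find hex ≠ 0 := by
      intro h
      have h1 := Nat.find_spec hex
      rw [h, pow_zero, pow_one] at h1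
      exact haA h1
    obtain ⟨i, hi⟩ : ∃ i, Nat.find hex = i + 1 := ⟨Nat.find hex - 1, by omega⟩
    obtain ⟨a', ha'⟩ : ∃ a' : T, a' = (a : T) ^ (2 ^ i) := ⟨_, rfl⟩
    have ha'A : a' ∉ A := by
      rw [ha']
      exact Nat.find_min hex (by rw [hi]; exact Nat.lt_succ_self i)
    have ha'2 : a' ^ 2 ∈ A := by
      have h1 := Nat.find_spec hex
      rw [hi, pow_succ, pow_mul] at h1
      rw [ha']
      exact h1
    have hny : ∃ y ∈ A, ∀ w ∈ A, y⁻¹ * (a' * y * a'⁻¹) ≠ w ^ 2 := by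
      by_contra hcon
      apply ha'A
      apply hstab
      intro x hx
      by_contra hcon2
      exact hcon ⟨x, hx, fun w hw hw' => hcon2 ⟨w, hw, hw'⟩⟩
    obtain ⟨y, hyA, hy⟩ := hny
    obtain ⟨κ, hκ⟩ := hgen (y⁻¹ * a * y⁻¹⁻¹) (hN.conj_mem a a.2 y⁻¹)
    have hκodd := odd_of_conj_eq_pow hT ha1 hκ.symm
    have hconj : y⁻¹ * a' * y = a' ^ κ := by
      have h1 : y⁻¹ * (a : T) ^ (2 ^ i) * y = (y⁻¹ * (a : T) * y⁻¹⁻¹) ^ (2 ^ i) := by
        rw [conj_pow, inv_inv]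
      rw [ha', h1, ← hκ, ← pow_mul, ← pow_mul, mul_comm]
    have hd : y⁻¹ * (a' * y * a'⁻¹) = a' ^ κ * a'⁻¹ := by
      rw [← hconj]
      simp only [mul_assoc]
    obtain ⟨c, hc⟩ := hκodd
    have hd2 : y⁻¹ * (a' * y * a'⁻¹) = (a' ^ 2) ^ c := by
      rw [hd, hc, pow_succ, mul_inv_cancel_right, pow_mul]
    have hcodd : Odd c := by
      by_contra hne
      rw [Nat.not_odd_iff_even] at hne
      obtain ⟨c2, hc2⟩ := hne
      apply hy ((a' ^ 2) ^ c2) (A.pow_mem ha'2 c2)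
      rw [hd2, hc2, ← pow_mul (a' ^ 2) c2 2, mul_two]
    obtain ⟨c', hc'⟩ := hcodd
    have h4 : a' ^ 4 = 1 := by
      have h1 : y⁻¹ * a' ^ 2 * y = a' ^ 2 := by
        have e1 := hab y hyA (a' ^ 2) ha'2
        rw [mul_assoc, ← e1, inv_mul_cancel_left]
      have h2 : y⁻¹ * a' ^ 2 * y = (a' ^ κ) ^ 2 := by
        rw [← hconj]
        simp only [pow_two, mul_assoc, mul_inv_cancel_left]
      have h3 : (a' ^ 4) ^ (2 * c' + 1) * a' ^ 2 = a' ^ 2 := by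
        have e1 : 4 * (2 * c' + 1) + 2 = κ * 2 := by rw [hc, hc']; ring
        rw [← pow_mul, ← pow_add, e1, pow_mul, ← h2, h1]
      have h5 : (a' ^ 4) ^ (2 * c' + 1) = 1 := mul_right_cancel (h3.trans (one_mul _).symm)
      exact eq_one_of_pow_odd hT ⟨c', rfl⟩ h5
    have hinv : y⁻¹ * a' * y = a'⁻¹ := by
      have e1 : κ = 4 * c' + 3 := by rw [hc, hc']; ring
      rw [hconj, e1, pow_add, pow_mul, h4, one_pow, one_mul]
      apply eq_inv_of_mul_eq_one_left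
      rw [← pow_succ]
      exact h4
    have h2ne : a' ^ 2 ≠ 1 := by
      intro h
      apply hy 1 A.one_mem
      rw [hd2, h, one_pow, one_pow]
    have hz : y⁻¹ * (a' * y * a'⁻¹) = a' ^ 2 := by
      have h1 : y⁻¹ * (a' * y * a'⁻¹) = (y⁻¹ * a' * y) * a'⁻¹ := by simp only [mul_assoc]
      have h2 : a'⁻¹ * a'⁻¹ = (a' ^ 2)⁻¹ := by simp only [pow_two, mul_inv_rev]
      rw [h1, hinv, h2]
      apply inv_eq_of_mul_eq_one_left
      rw [← pow_add]
      exact h4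
    rcases hsq (a' ^ 2) ha'2 (by rw [← pow_mul]; exact h4) with ⟨w, hw, hw'⟩ | hel
    · exact absurd (hz.trans hw') (hy w hw)
    · refine ⟨a', y, h4, h2ne, hel y hyA, ?_⟩
      have e1 : a' = y * (y⁻¹ * a' * y) * y⁻¹ := by group
      rw [hinv] at e1
      have e2 : y * a' * y⁻¹ = (y * a'⁻¹ * y⁻¹)⁻¹ := by group
      rw [e2, ← e1]

end homoc

end Cfsg.Agent.Lib.Helper26
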